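import Groth.Agent.SchFinLib.FEt

set_option backward.isDefEq.respectTransparency false
set_option backward.defeqAttrib.useBackward true

universe u

open TensorProduct CategoryTheory

namespace Groth.Agent.SchFinLib

open SchFin

theorem eq_zero_or_one_of_idem {R : Type*} [CommRing R] [ConnectedSpace (PrimeSpectrum R)] {e : R}
    (he : IsIdempotentElem e) : e = 0 ∨ e = 1 := by
  rcases isClopen_iff.mp (PrimeSpectrum.isClopen_iff.mpr ⟨e, he, rfl⟩ :
      IsClopen (PrimeSpectrum.basicOpen e : Set (PrimeSpectrum R))) with h | h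
  · left
    have hnil : IsNilpotent e := (PrimeSpectrum.basicOpen_eq_bot_iff e).mp
      (TopologicalSpace.Opens.ext h)
    exact he.eq_zero_of_isNilpotent hnil
  · right
    have hu : IsUnit e := by
      rw [← Ideal.span_singleton_eq_top, ← PrimeSpectrum.zeroLocus_empty_iff_eq_top,
        PrimeSpectrum.zeroLocus_span]
      rw [PrimeSpectrum.basicOpen_eq_zeroLocus_compl, Set.compl_univ_iff] at h
      exact h
    exact (IsIdempotentElem.iff_eq_one_of_isUnit hu).mp he

theorem connectedSpace_of_idem {R : Type*} [CommRing R] [Nontrivial R]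
    (h : ∀ e : R, IsIdempotentElem e → e = 0 ∨ e = 1) : ConnectedSpace (PrimeSpectrum R) := by
  refine connectedSpace_iff_clopen.mpr ⟨inferInstance, fun s hs => ?_⟩
  obtain ⟨e, he, rfl⟩ := PrimeSpectrum.isClopen_iff.mp hs
  rcases h e he with rfl | rfl
  · left; simp
  · right; simp

variable {X : RSpace.{u}}

theorem nonempty_pt_of_connected (hc : X.IsConnected) : Nonempty X.pt := by
  by_contra hempty
  haveI : IsEmpty X.pt := not_nonempty_iff.mp hempty
  haveI : Subsingleton (X.sectRing Set.univ) :=
    ⟨fun a b => Subtype.ext (funext fun q => (IsEmpty.false q.1).elim)⟩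
  obtain ⟨P⟩ := (hc : ConnectedSpace (PrimeSpectrum (X.sectRing Set.univ))).toNonempty
  exact P.isPrime.ne_top ((Ideal.eq_top_iff_one _).mpr (by rw [Subsingleton.elim (1 : X.sectRing Set.univ) 0]; exact P.asIdeal.zero_mem))

theorem isTopConnected_of_isWellConnected (hwc : X.IsWellConnected) : X.IsTopConnected := by
  classical
  refine ⟨nonempty_pt_of_connected hwc.1, fun p q => ?_⟩
  by_contra hpq
  haveI : ConnectedSpace (PrimeSpectrum (X.sectRing Set.univ)) := hwc.1
  let r := fun a b : X.pt => a ≤ b
  let s : X.sectRing Set.univ :=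
    ⟨fun z => if Relation.EqvGen r p z.1 then 1 else 0, fun z z' h => by
      have : Relation.EqvGen r p z.1 ↔ Relation.EqvGen r p z'.1 :=
        ⟨fun hz => hz.trans _ _ _ (Relation.EqvGen.rel _ _ h),
          fun hz => hz.trans _ _ _ ((Relation.EqvGen.rel _ _ h).symm _ _)⟩
      by_cases hz : Relation.EqvGen r p z.1
      · simp only [if_pos hz, if_pos (this.mp hz), map_one]
      · simp only [if_neg hz, if_neg (this.not.mp hz), map_zero]⟩
  have hs : IsIdempotentElem s := Subtype.ext (funext fun z => by
    change (if _ then (1 : X.ring z.1) else 0) * (if _ then (1 : X.ring z.1) else 0) = _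
    split_ifs with h <;> simp [s, h])
  have hne : ∀ z, Nontrivial (X.ring z) := fun z =>
    haveI : ConnectedSpace (PrimeSpectrum (X.ring z)) := hwc.2 z
    PrimeSpectrum.nonempty_iff_nontrivial.mp inferInstance
  rcases eq_zero_or_one_of_idem hs with h | h
  · haveI := hne p
    have := congrFun (congrArg Subtype.val h) ⟨p, trivial⟩
    simp [s, Relation.EqvGen.refl] at this
  · haveI := hne q
    have := congrFun (congrArg Subtype.val h) ⟨q, trivial⟩
    simp [s, r, hpq] at this

/-- On a connected poset a function that is constant along the order is constant. -/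
theorem const_of_topConnected (hc : X.IsTopConnected) {β : Type*} (F : X.pt → β)
    (h : ∀ a b : X.pt, a ≤ b → F a = F b) (a b : X.pt) : F a = F b := by
  induction hc.2 a b with
  | rel x y hxy => exact h x y hxy
  | refl x => rfl
  | symm x y _ ih => exact ih.symm
  | trans x y z _ _ ih₁ ih₂ => exact ih₁.trans ih₂

theorem isWellConnected_iff :
    X.IsWellConnected ↔ (X.IsTopConnected ∧ X.IsPwConnected) := by
  classical
  refine ⟨fun h => ⟨isTopConnected_of_isWellConnected h, h.2⟩, fun ⟨ht, hp⟩ => ⟨?_, hp⟩⟩
  obtain ⟨p₀⟩ := ht.1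
  have hne : ∀ z, Nontrivial (X.ring z) := fun z =>
    haveI : ConnectedSpace (PrimeSpectrum (X.ring z)) := hp z
    PrimeSpectrum.nonempty_iff_nontrivial.mp inferInstance
  haveI : Nontrivial (X.sectRing Set.univ) :=
    haveI := hne p₀
    ⟨0, 1, fun h => zero_ne_one (congrFun (congrArg Subtype.val h) ⟨p₀, trivial⟩)⟩
  refine connectedSpace_of_idem fun e he => ?_
  have hval : ∀ z : X.pt, e.1 ⟨z, trivial⟩ = 0 ∨ e.1 ⟨z, trivial⟩ = 1 := fun z =>
    haveI : ConnectedSpace (PrimeSpectrum (X.ring z)) := hp z
    eq_zero_or_one_of_idem (congrFun (congrArg Subtype.val he) ⟨z, trivial⟩)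
  have hconst : ∀ a b : X.pt, (e.1 ⟨a, trivial⟩ = 0) = (e.1 ⟨b, trivial⟩ = 0) := by
    refine const_of_topConnected ht _ fun a b hab => propext ?_
    rw [← e.2 ⟨a, trivial⟩ ⟨b, trivial⟩ hab]
    refine ⟨fun h => by rw [h, map_zero], fun h => ?_⟩
    rcases hval a with ha | ha
    · exact ha
    · haveI := hne b
      rw [ha, map_one] at h
      exact absurd h one_ne_zero
  by_cases h0 : e.1 ⟨p₀, trivial⟩ = 0
  · exact Or.inl (Subtype.ext (funext fun z => (hconst p₀ z.1).mp h0))
  · exact Or.inr (Subtype.ext (funext fun z =>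
      (hval z.1).resolve_left fun h => h0 ((hconst z.1 p₀).mp h)))

theorem exists_apply_eq_comp (hwc : X.IsWellConnected) (F E : Type) [Finite F] [Finite E]
    (f : ∀ p : X.pt, (F → X.ring p) →ₐ[X.ring p] (E → X.ring p))
    (hf : ∀ (p q : X.pt) (h : p ≤ q) (g : F → X.ring p) (e : E),
      X.res h (f p g e) = f q (fun i => X.res h (g i)) e) :
    ∃ φ : E → F, ∀ (p : X.pt) (g : F → X.ring p) (e : E), f p g e = g (φ e) := by
  classical
  haveI : Fintype F := Fintype.ofFinite F
  have ht := isTopConnected_of_isWellConnected hwc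
  obtain ⟨p₀⟩ := ht.1
  have hne : ∀ z, Nontrivial (X.ring z) := fun z =>
    haveI : ConnectedSpace (PrimeSpectrum (X.ring z)) := hwc.2 z
    PrimeSpectrum.nonempty_iff_nontrivial.mp inferInstance
  have hval : ∀ (p : X.pt) (e : E) (i : F),
      f p (Pi.single i 1) e = 0 ∨ f p (Pi.single i 1) e = 1 := fun p e i => by
    haveI : ConnectedSpace (PrimeSpectrum (X.ring p)) := hwc.2 p
    refine eq_zero_or_one_of_idem ?_
    change f p (Pi.single i 1) e * f p (Pi.single i 1) e = f p (Pi.single i 1) e
    rw [← Pi.mul_apply, ← map_mul, ← Pi.single_mul, one_mul]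
  have hconst : ∀ (e : E) (i : F) (a b : X.pt),
      (f a (Pi.single i 1) e = 0) = (f b (Pi.single i 1) e = 0) := by
    intro e i
    refine const_of_topConnected ht _ fun a b hab => propext ?_
    have : f b (Pi.single i 1) e = X.res hab (f a (Pi.single i 1) e) := by
      rw [hf a b hab]
      refine congrFun (congrArg (f b) ?_) e
      funext j
      rw [Pi.apply_single (fun _ => X.res hab) (fun _ => map_zero _), map_one]
    rw [this]
    refine ⟨fun h => by rw [h, map_zero], fun h => ?_⟩
    rcases hval a e i with ha | ha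
    · exact ha
    · haveI := hne b
      rw [ha, map_one] at h
      exact absurd h one_ne_zero
  have hsum : ∀ (p : X.pt) (g : F → X.ring p) (e : E),
      f p g e = ∑ i, g i * f p (Pi.single i 1) e := by
    intro p g e
    conv_lhs => rw [show g = ∑ i, g i • (Pi.single i (1 : X.ring p) : F → X.ring p) by
      funext j; simp [Finset.sum_apply, Pi.single_apply]]
    rw [map_sum, Finset.sum_apply]
    simp
  have hex : ∀ e : E, ∃ i, f p₀ (Pi.single i 1) e ≠ 0 := by
    intro e
    by_contra hall
    push Not at hall
    haveI := hne p₀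
    have := hsum p₀ 1 e
    simp [hall] at this
  choose φ hφ using hex
  refine ⟨φ, fun p g e => ?_⟩
  have h1 : f p (Pi.single (φ e) 1) e = 1 :=
    (hval p e (φ e)).resolve_left fun h => hφ e ((hconst e (φ e) p p₀).mp h)
  rw [hsum, Finset.sum_eq_single (φ e)]
  · rw [h1, mul_one]
  · intro i _ hi
    have hz : f p (Pi.single i 1) e * f p (Pi.single (φ e) 1) e = 0 := by
      rw [← Pi.mul_apply, ← map_mul,
        show (Pi.single i (1 : X.ring p) : F → X.ring p) * Pi.single (φ e) 1 = 0 by
          funext j
          by_cases hj : j = i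
          · subst hj; simp [hi]
          · simp [hj]]
      simp
    rw [h1, mul_one] at hz
    rw [hz, mul_zero]
  · simp

/-- The rank of an étale cover at a prime. -/
theorem rank_res {A : Alg X} (hA : A.IsEtCover) {p q : X.pt} (h : p ≤ q)
    (Q : PrimeSpectrum (X.ring q)) :
    Module.rankAtStalk (A.carrier q) Q =
      Module.rankAtStalk (A.carrier p) (PrimeSpectrum.comap (X.res h) Q) := by
  letI := (X.res h).toAlgebra
  haveI := (hA.2 p).1
  haveI := (hA.2 p).2
  let e : X.ring q ⊗[X.ring p] A.carrier p ≃ₗ[X.ring q] A.carrier q :=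
    { AddEquiv.ofBijective (bcA A h) (bijective_bcA hA.1 h) with
      map_smul' := fun r t => by
        change bcA A h (r • t) = r • bcA A h t
        induction t using TensorProduct.induction_on with
        | zero => simp
        | tmul s a =>
          rw [TensorProduct.smul_tmul', bcA_tmul, bcA_tmul, smul_eq_mul, map_mul, Algebra.smul_def,
            mul_assoc]
        | add x y hx hy => simp only [smul_add, map_add, hx, hy] }
  rw [← Module.rankAtStalk_eq_of_equiv e, Module.rankAtStalk_baseChange]
  rfl

theorem rank_const (hwc : X.IsWellConnected) {A : Alg X} (hA : A.IsEtCover) (p q : X.pt)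
    (P : PrimeSpectrum (X.ring p)) (Q : PrimeSpectrum (X.ring q)) :
    Module.rankAtStalk (A.carrier p) P = Module.rankAtStalk (A.carrier q) Q := by
  have hloc : ∀ (z : X.pt) (R S : PrimeSpectrum (X.ring z)),
      Module.rankAtStalk (A.carrier z) R = Module.rankAtStalk (A.carrier z) S := by
    intro z R S
    haveI : ConnectedSpace (PrimeSpectrum (X.ring z)) := hwc.2 z
    haveI := (hA.2 z).1
    haveI := (hA.2 z).2
    haveI : Module.FinitePresentation (X.ring z) (A.carrier z) :=
      Module.FinitePresentation.of_finite_of_finitePresentation _ _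
    exact (Module.isLocallyConstant_rankAtStalk).apply_eq_of_preconnectedSpace R S
  have hpt : ∀ z, Nonempty (PrimeSpectrum (X.ring z)) := fun z =>
    (hwc.2 z : ConnectedSpace (PrimeSpectrum (X.ring z))).toNonempty
  let F : X.pt → ℕ := fun z => Module.rankAtStalk (A.carrier z) (hpt z).some
  have := const_of_topConnected (isTopConnected_of_isWellConnected hwc) F (fun a b hab => by
    change Module.rankAtStalk (A.carrier a) _ = Module.rankAtStalk (A.carrier b) _
    rw [rank_res hA hab]
    exact hloc _ _ _) p q
  exact (hloc p P _).trans (this.trans (hloc q _ Q))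

/-- An injective morphism of étale covers with equal ranks is bijective. -/
theorem bijective_of_injective_of_rank_eq {R A B : Type u} [CommRing R] [CommRing A] [CommRing B]
    [Algebra R A] [Algebra R B] [Module.Finite R A] [Algebra.Etale R A] [Module.Finite R B]
    [Algebra.Etale R B] (f : A →ₐ[R] B) (hf : Function.Injective f)
    (hdeg : ∀ P : PrimeSpectrum R, Module.rankAtStalk A P = Module.rankAtStalk B P) :
    Function.Bijective f := by
  refine ⟨hf, ?_⟩
  letI := f.toRingHom.toAlgebra
  haveI : IsScalarTower R A B := IsScalarTower.of_algebraMap_eq fun r => (f.commutes r).symm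
  haveI : Algebra.Etale A B := Algebra.Etale.of_restrictScalars R A B
  haveI : Module.Finite A B := Module.Finite.of_restrictScalars_finite R A B
  haveI : FaithfulSMul A B := (faithfulSMul_iff_algebraMap_injective A B).mpr hf
  haveI : Algebra.IsIntegral A B := Algebra.IsIntegral.of_finite A B
  haveI : Module.FaithfullyFlat A B := by
    refine Module.FaithfullyFlat.of_comap_surjective fun P => ?_
    obtain ⟨Q, -, hQP⟩ := Ideal.exists_ideal_over_prime_of_isIntegral P.asIdeal (⊥ : Ideal B)
      (by rw [Ideal.comap_bot_of_injective (algebraMap A B) hf]; exact bot_le)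
    exact ⟨⟨Q, hQP.1⟩, PrimeSpectrum.ext hQP.2⟩
  have hfib : ∀ P : PrimeSpectrum R, Function.Surjective
      (LinearMap.baseChange P.asIdeal.ResidueField f.toLinearMap) := by
    intro P
    haveI : Module.FinitePresentation R A := Module.FinitePresentation.of_finite_of_finitePresentation R A
    haveI : Module.FinitePresentation R B := Module.FinitePresentation.of_finite_of_finitePresentation R B
    have hdim : Module.finrank P.asIdeal.ResidueField (P.asIdeal.Fiber A) =
        Module.finrank P.asIdeal.ResidueField (P.asIdeal.Fiber B) := by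
      rw [← Module.rankAtStalk_eq, ← Module.rankAtStalk_eq, hdeg P]
    refine (LinearMap.injective_iff_surjective_of_finrank_eq_finrank hdim).mp ?_
    haveI : IsReduced (P.asIdeal.ResidueField ⊗[R] A) :=
      Algebra.FormallyUnramified.isReduced_of_field P.asIdeal.ResidueField _
    refine (injective_iff_map_eq_zero _).mpr fun x hx => ?_
    obtain ⟨r, hr, a, hra⟩ := Ideal.Fiber.exists_smul_eq_one_tmul P.asIdeal x
    have hfa : (1 : P.asIdeal.ResidueField) ⊗ₜ[R] f a = 0 := by
      have := congrArg ((LinearMap.baseChange P.asIdeal.ResidueField f.toLinearMap).restrictScalars R) hra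
      rw [LinearMap.map_smul] at this
      simp only [LinearMap.coe_restrictScalars] at this
      rw [hx, smul_zero] at this
      exact this.symm
    have hnil : IsNilpotent ((1 : P.asIdeal.ResidueField) ⊗ₜ[R] a) := by
      rw [← mem_nilradical, nilradical_eq_sInf, Submodule.mem_sInf]
      intro Q hQ
      replace hQ : Ideal.IsPrime Q := hQ
      haveI := hQ
      let QA : Ideal A := Ideal.comap (Algebra.TensorProduct.includeRight (R := R) (A := P.asIdeal.ResidueField) (B := A)).toRingHom Q
      obtain ⟨QB, hQB⟩ := PrimeSpectrum.comap_surjective_of_faithfullyFlat (A := A) (B := B)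
        ⟨QA, inferInstance⟩
      have hover : QB.asIdeal.comap (algebraMap R B) = P.asIdeal := by
        rw [IsScalarTower.algebraMap_eq R A B, ← Ideal.comap_comap,
          show QB.asIdeal.comap (algebraMap A B) = QA from congrArg PrimeSpectrum.asIdeal hQB]
        ext t
        change ((1 : P.asIdeal.ResidueField) ⊗ₜ[R] algebraMap R A t) ∈ Q ↔ t ∈ P.asIdeal
        rw [← Algebra.TensorProduct.tmul_one_eq_one_tmul, ← Ideal.algebraMap_residueField_eq_zero (I := P.asIdeal)]
        refine ⟨fun h => ?_, fun h => by rw [h, TensorProduct.zero_tmul]; exact Q.zero_mem⟩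
        by_contra hne
        exact hQ.ne_top (Ideal.eq_top_of_isUnit_mem Q h ((isUnit_iff_ne_zero.mpr hne).map
          (Algebra.TensorProduct.includeLeftRingHom (R := R) (A := P.asIdeal.ResidueField) (B := A))))
      let χ : P.asIdeal.ResidueField ⊗[R] B →ₐ[R] QB.asIdeal.ResidueField :=
        Algebra.TensorProduct.lift (Ideal.ResidueField.mapₐ P.asIdeal QB.asIdeal (Algebra.ofId R B) hover.symm)
          (IsScalarTower.toAlgHom R B _) (fun _ _ => Commute.all _ _)
      have h0 := congrArg χ hfa
      rw [Algebra.TensorProduct.lift_tmul, map_one, one_mul, map_zero] at h0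
      have : f a ∈ QB.asIdeal := Ideal.algebraMap_residueField_eq_zero.mp h0
      exact (congrArg PrimeSpectrum.asIdeal hQB).le this
    have hu : IsUnit (algebraMap R P.asIdeal.ResidueField r) :=
      isUnit_iff_ne_zero.mpr (fun h => hr (Ideal.algebraMap_residueField_eq_zero.mp h))
    have h1 : algebraMap R P.asIdeal.ResidueField r • x = 0 := by
      rw [algebraMap_smul, hra]
      exact hnil.eq_zero
    exact hu.smul_eq_zero.mp h1
  intro b
  let C := B ⧸ LinearMap.range f.toLinearMap
  suffices h : Module.annihilator R C = ⊤ by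
    have := Module.mem_annihilator.mp (h.ge (Submodule.mem_top (x := (1 : R))))
      (Submodule.Quotient.mk b)
    rw [one_smul, Submodule.Quotient.mk_eq_zero] at this
    exact this
  by_contra hne
  obtain ⟨m, hm, hle⟩ := Ideal.exists_le_maximal _ hne
  have htop : (⊤ : Submodule R C) ≤ m • ⊤ := by
    rw [← LinearMap.ker_tensorProductMk]
    intro c _
    obtain ⟨c, rfl⟩ := Submodule.Quotient.mk_surjective _ c
    obtain ⟨w, hw⟩ := hfib ⟨m, hm.isPrime⟩ ((1 : m.ResidueField) ⊗ₜ[R] c)
    let e : m.ResidueField ⊗[R] C →ₗ[R] (R ⧸ m) ⊗[R] C := LinearMap.rTensor C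
      (AlgEquiv.ofBijective (IsScalarTower.toAlgHom R (R ⧸ m) m.ResidueField)
        (Ideal.bijective_algebraMap_quotient_residueField m)).symm.toLinearMap
    have h2 := congrArg (e ∘ₗ LinearMap.lTensor m.ResidueField (LinearMap.range f.toLinearMap).mkQ) hw
    have h3 : ∀ w, LinearMap.lTensor m.ResidueField (LinearMap.range f.toLinearMap).mkQ
        (LinearMap.baseChange m.ResidueField f.toLinearMap w) = 0 := by
      intro w
      induction w using TensorProduct.induction_on with
      | zero => simp
      | tmul k a =>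
        rw [LinearMap.baseChange_tmul, LinearMap.lTensor_tmul,
          show (LinearMap.range f.toLinearMap).mkQ (f.toLinearMap a) = 0 from
            (Submodule.Quotient.mk_eq_zero _).mpr ⟨a, rfl⟩, TensorProduct.tmul_zero]
      | add x y hx hy => simp only [map_add, hx, hy, add_zero]
    rw [LinearMap.comp_apply, LinearMap.comp_apply, h3, map_zero, LinearMap.lTensor_tmul] at h2
    rw [LinearMap.mem_ker]
    refine Eq.trans ?_ h2.symm
    simp [e]
    rfl
  obtain ⟨r, hr, hr'⟩ := Submodule.exists_sub_one_mem_and_smul_eq_zero_of_fg_of_le_smul m ⊤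
    Module.Finite.fg_top htop
  have : r ∈ m := hle (Module.mem_annihilator.mpr fun c => hr' c trivial)
  exact hm.ne_top ((Ideal.eq_top_iff_one m).mpr (by simpa using m.sub_mem this hr))

end Groth.Agent.SchFinLib
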