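import Mathlib

universe u

open TensorProduct

namespace Groth.Agent.SchFinLib

/-- The kernel of a map to a finite projective algebra is generated by an idempotent. -/
theorem exists_idempotent_ker {A B : Type u} [CommRing A] [CommRing B] [Algebra A B]
    [Module.Finite A B] [Module.Projective A B] :
    ∃ e : A, IsIdempotentElem e ∧ RingHom.ker (algebraMap A B) = Ideal.span {e} := by
  let T : Ideal A := Ideal.span {x | ∃ (φ : B →ₗ[A] A) (m : B), φ m = x}
  have hTB : (⊤ : Submodule A B) ≤ T • ⊤ := by
    intro m _
    obtain ⟨s, hs⟩ := (Module.projective_def'.mp (inferInstance : Module.Projective A B))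
    have : m = Finsupp.linearCombination A id (s m) := (LinearMap.congr_fun hs m).symm
    rw [this, Finsupp.linearCombination_apply, Finsupp.sum]
    exact Submodule.sum_mem _ fun x _ => Submodule.smul_mem_smul
      (Ideal.subset_span ⟨(Finsupp.lapply x).comp s, m, rfl⟩) trivial
  obtain ⟨t, htT, ht⟩ := Submodule.exists_mem_and_smul_eq_self_of_fg_of_le_smul T ⊤
    Module.Finite.fg_top hTB
  have hkill : ∀ i ∈ RingHom.ker (algebraMap A B), ∀ x ∈ T, x * i = 0 := by
    intro i hi x hx
    have hle : T ≤ LinearMap.ker (LinearMap.mulRight A i) := by
      refine Ideal.span_le.mpr ?_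
      rintro _ ⟨φ, m, rfl⟩
      change φ m * i = 0
      rw [mul_comm, ← smul_eq_mul, ← map_smul, Algebra.smul_def, RingHom.mem_ker.mp hi, zero_mul,
        map_zero]
    exact hle hx
  have hmem : 1 - t ∈ RingHom.ker (algebraMap A B) := by
    rw [RingHom.mem_ker, map_sub, map_one, sub_eq_zero]
    have := ht 1 trivial
    rw [Algebra.smul_def, mul_one] at this
    exact this.symm
  refine ⟨1 - t, ?_, le_antisymm (fun i hi => ?_) ?_⟩
  · have := hkill _ hmem t htT
    change (1 - t) * (1 - t) = 1 - t
    rw [sub_mul, one_mul, this, sub_zero]
  · have := hkill i hi t htT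
    rw [Ideal.mem_span_singleton]
    exact ⟨i, by rw [sub_mul, one_mul, this, sub_zero]⟩
  · exact (Ideal.span_singleton_le_iff_mem _).mpr hmem

variable {R A B : Type u} [CommRing R] [CommRing A] [CommRing B] [Algebra R A] [Algebra R B]

theorem etale_quotient_idempotent [Algebra.Etale R A] {e : A} (he : IsIdempotentElem e) :
    Algebra.Etale R (A ⧸ Ideal.span {e}) := by
  have h1 : IsLocalization.Away (1 - e) (A ⧸ Ideal.span {e}) := by
    have := IsLocalization.Away.quotient_of_isIdempotentElem (e := 1 - e) he.one_sub
    rwa [sub_sub_cancel] at this
  haveI : Algebra.Etale A (A ⧸ Ideal.span {e}) := Algebra.Etale.of_isLocalizationAway (1 - e)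
  exact Algebra.Etale.comp R A _

theorem etale_prod [Algebra.Etale R A] [Algebra.Etale R B] : Algebra.Etale R (A × B) := by
  let F : Bool → Type u := fun b => bif b then A else B
  letI : ∀ b, CommRing (F b) := fun b => match b with
    | true => (inferInstance : CommRing A)
    | false => (inferInstance : CommRing B)
  letI : ∀ b, Algebra R (F b) := fun b => match b with
    | true => (inferInstance : Algebra R A)
    | false => (inferInstance : Algebra R B)
  haveI : ∀ b, Algebra.Etale R (F b) := fun b => match b with
    | true => (inferInstance : Algebra.Etale R A)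
    | false => (inferInstance : Algebra.Etale R B)
  let e : (∀ b, F b) ≃ₐ[R] A × B :=
    { toFun := fun f => (f true, f false)
      invFun := fun p b => match b with
        | true => p.1
        | false => p.2
      left_inv := fun f => funext fun b => by cases b <;> rfl
      right_inv := fun p => rfl
      map_mul' := fun _ _ => rfl
      map_add' := fun _ _ => rfl
      commutes' := fun _ => rfl }
  exact Algebra.Etale.of_equiv e

/-- For finite étale algebras the kernel of a map is generated by an idempotent. -/
theorem exists_idempotent_ker_of_etale [Module.Finite R B] [Algebra.Etale R A] [Algebra.Etale R B]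
    (f : A →ₐ[R] B) :
    ∃ e : A, IsIdempotentElem e ∧ RingHom.ker f.toRingHom = Ideal.span {e} := by
  letI := f.toRingHom.toAlgebra
  haveI : IsScalarTower R A B := IsScalarTower.of_algebraMap_eq fun r => (f.commutes r).symm
  haveI : Algebra.Etale A B := Algebra.Etale.of_restrictScalars R A B
  haveI : Module.Finite A B := Module.Finite.of_restrictScalars_finite R A B
  haveI : Module.FinitePresentation A B := Module.FinitePresentation.of_finite_of_finitePresentation A B
  haveI : Module.Projective A B := Module.Flat.projective_of_finitePresentation
  exact exists_idempotent_ker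

end Groth.Agent.SchFinLib
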