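import Groth.Agent.SchFinLib.Basic

set_option backward.isDefEq.respectTransparency false
set_option backward.defeqAttrib.useBackward true

universe u

open TensorProduct

namespace Groth.Agent.SchFinLib

open SchFin

variable {X : RSpace.{u}}

/-- The map `O_a ⊗[O_s] O_b → O(up a ∩ up b)`. -/
noncomputable def pairMap {s a b : X.pt} (ha : s ≤ a) (hb : s ≤ b) :
    letI := (X.res ha).toAlgebra
    letI := (X.res hb).toAlgebra
    X.ring a ⊗[X.ring s] X.ring b →+* X.sectRing (X.up a ∩ X.up b) :=
  letI := (X.res ha).toAlgebra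
  letI := (X.res hb).toAlgebra
  letI : Algebra (X.ring s) (X.sectRing (X.up a ∩ X.up b)) :=
    (X.resSect s (X.up a ∩ X.up b) (fun _ hq => ha.trans hq.1)).toAlgebra
  (Algebra.TensorProduct.lift
    (⟨X.resSect a (X.up a ∩ X.up b) Set.inter_subset_left, fun r => Subtype.ext <| funext fun q =>
      X.res_comp ha (Set.inter_subset_left q.2) r⟩ : X.ring a →ₐ[X.ring s] X.sectRing (X.up a ∩ X.up b))
    (⟨X.resSect b (X.up a ∩ X.up b) Set.inter_subset_right, fun r => Subtype.ext <| funext fun q =>
      X.res_comp hb (Set.inter_subset_right q.2) r⟩ : X.ring b →ₐ[X.ring s] X.sectRing (X.up a ∩ X.up b))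
    (fun _ _ => Commute.all _ _)).toRingHom

theorem pairMap_tmul {s a b : X.pt} (ha : s ≤ a) (hb : s ≤ b) (u : X.ring a) (v : X.ring b)
    (q : ↥(X.up a ∩ X.up b)) :
    letI := (X.res ha).toAlgebra
    letI := (X.res hb).toAlgebra
    (pairMap ha hb (u ⊗ₜ[X.ring s] v)).1 q = X.res q.2.1 u * X.res q.2.2 v := rfl

/-- The schematic condition in degree zero. -/
theorem pairMap_bijective (hX : X.IsSchematic) {s a b : X.pt} (ha : s ≤ a) (hb : s ≤ b) :
    Function.Bijective (pairMap ha hb) := by
  letI := (X.res ha).toAlgebra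
  letI := (X.res hb).toAlgebra
  let σ := (Hom.id X).subSrc ha b
  have h0 : IsBCAlong (X.res ha) (resH X.str σ 0) := (hX.2.2 0 s a ha b b le_rfl).1
  have h1 : Function.Bijective (bcMap σ.hom (resZ _ X.str σ)) :=
    (isBCAlong_iff _ _).mp ((isBCAlong_resH_zero_iff _ X.str σ).mp h0)
  let U : Set X.pt := (Hom.id X).wedge s b
  let φ := Coef.ofLE s U ((Hom.id X).wedge_subset_up s b)
  let bU : U := ⟨b, hb, le_rfl⟩
  let e : cocycles φ X.str 0 →ₗ[X.ring s] X.ring b :=
    { toFun := fun c => (cocyclesEquiv φ c).1 bU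
      map_add' := fun c c' => by rw [map_add]; rfl
      map_smul' := fun r c => by
        rw [cocyclesEquiv_smul]
        rfl }
  have he : Function.Bijective e := by
    refine ⟨fun c c' h => ?_, fun v => ?_⟩
    · apply (cocyclesEquiv φ).injective
      refine Subtype.ext (funext fun q => ?_)
      rw [← (cocyclesEquiv φ c).2 bU q q.2.2, ← (cocyclesEquiv φ c').2 bU q q.2.2]
      exact congrArg _ h
    · let sv : X.sectRing U := ⟨fun q => X.res q.2.2 v, fun q q' h => X.res_comp _ _ v⟩
      refine ⟨(cocyclesEquiv φ).symm sv, ?_⟩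
      change ((cocyclesEquiv φ) ((cocyclesEquiv φ).symm sv)).1 bU = v
      rw [AddEquiv.apply_symm_apply]
      exact X.res_self b v
  let E : X.ring a ⊗[X.ring s] cocycles φ X.str 0 ≃ₗ[X.ring s] X.ring a ⊗[X.ring s] X.ring b :=
    LinearEquiv.lTensor (X.ring a) (LinearEquiv.ofBijective e he)
  let ψ := cocyclesEquiv (Coef.ofLE a ((Hom.id X).wedge a b) ((Hom.id X).wedge_subset_up a b))
  have key : ∀ t, pairMap ha hb (E t) = ψ (bcMap σ.hom (resZ _ X.str σ) t) := by
    intro t
    induction t using TensorProduct.induction_on with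
    | zero =>
      exact ((congrArg (pairMap ha hb) (map_zero E)).trans (map_zero _)).trans ((congrArg ψ (map_zero _)).trans (map_zero ψ)).symm
    | tmul u c =>
      refine Subtype.ext (funext fun q => ?_)
      refine (pairMap_tmul ha hb u (e c) q).trans ?_
      refine Eq.trans ?_ (cocyclesEquiv_smul _ u (resZ _ X.str σ c) q).symm
      have hq : (cocyclesEquiv φ c).1 ⟨q.1, ha.trans q.2.1, q.2.2⟩ = X.res q.2.2 (e c) :=
        ((cocyclesEquiv φ c).2 bU ⟨q.1, ha.trans q.2.1, q.2.2⟩ q.2.2).symm
      rw [← hq]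
      rfl
    | add x y hx hy => simp only [map_add, hx, hy]
  have hfun : (pairMap ha hb) ∘ E = ψ ∘ bcMap σ.hom (resZ _ X.str σ) := funext key
  exact (Function.Bijective.of_comp_iff _ E.bijective).mp (hfun ▸ ψ.bijective.comp h1)

/-- Restriction maps of a schematic space are epimorphisms of rings. -/
theorem lmul'_bijective (hX : X.IsSchematic) {x y : X.pt} (h : x ≤ y) :
    letI := (X.res h).toAlgebra
    Function.Bijective (Algebra.TensorProduct.lmul' (X.ring x) (S := X.ring y)) := by
  letI := (X.res h).toAlgebra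
  let ev : X.sectRing (X.up y ∩ X.up y) →+* X.ring y :=
    X.evalRing (X.up y ∩ X.up y) ⟨y, le_refl y, le_refl y⟩
  have hev : Function.Bijective ev := by
    refine ⟨fun c c' hc => ?_, fun v => ⟨X.resSect y _ Set.inter_subset_left v, X.res_self y v⟩⟩
    refine Subtype.ext (funext fun q => ?_)
    rw [← c.2 ⟨y, le_refl y, le_refl y⟩ q q.2.1, ← c'.2 ⟨y, le_refl y, le_refl y⟩ q q.2.1]
    exact congrArg _ hc
  have : ⇑(Algebra.TensorProduct.lmul' (X.ring x) (S := X.ring y)) = ev ∘ pairMap h h := by
    funext t
    induction t using TensorProduct.induction_on with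
    | zero => exact (map_zero _).trans ((congrArg ev (map_zero _)).trans (map_zero ev)).symm
    | tmul u v =>
      rw [Algebra.TensorProduct.lmul'_apply_tmul]
      change u * v = X.res _ u * X.res _ v
      rw [X.res_self, X.res_self]
    | add p q hp hq => simp only [Function.comp_apply, map_add] at hp hq ⊢; rw [hp, hq]
  rw [this]
  exact hev.comp (pairMap_bijective hX h h)

/-- `ringHom_ext`: maps out of `O_y` are determined by their composites with restriction. -/
theorem ringHom_ext (hX : X.IsSchematic) {x y : X.pt} (h : x ≤ y) {T : Type*} [CommRing T]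
    {g₁ g₂ : X.ring y →+* T} (hg : g₁.comp (X.res h) = g₂.comp (X.res h)) : g₁ = g₂ := by
  letI := (X.res h).toAlgebra
  letI : Algebra (X.ring x) T := (g₁.comp (X.res h)).toAlgebra
  let a₁ : X.ring y →ₐ[X.ring x] T := ⟨g₁, fun _ => rfl⟩
  let a₂ : X.ring y →ₐ[X.ring x] T := ⟨g₂, fun r => (RingHom.congr_fun hg r).symm⟩
  ext v
  have h1 : (v ⊗ₜ[X.ring x] (1 : X.ring y)) = (1 : X.ring y) ⊗ₜ v :=
    (lmul'_bijective hX h).1 (by simp)
  have := congrArg (Algebra.TensorProduct.lift a₁ a₂ (fun _ _ => Commute.all _ _)) h1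
  simpa [a₁, a₂] using this

theorem flat_res (hX : X.IsSchematic) {x y : X.pt} (h : x ≤ y) : (X.res h).Flat :=
  hX.1.2 x y h

theorem isNoetherianRing (hX : X.IsSchematic) (x : X.pt) : IsNoetherianRing (X.ring x) :=
  hX.1.1 x

end Groth.Agent.SchFinLib

namespace Groth.Agent.SchFinLib

open SchFin

variable {X : RSpace.{u}}

/-- A faithfully flat epimorphism of rings is bijective. -/
theorem bijective_of_epi_faithfullyFlat {R S : Type u} [CommRing R] [CommRing S] [Algebra R S]
    [Module.FaithfullyFlat R S] (hepi : ∀ v : S, v ⊗ₜ[R] (1 : S) = (1 : S) ⊗ₜ[R] v) :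
    Function.Bijective (algebraMap R S) := by
  refine ⟨FaithfulSMul.algebraMap_injective R S, fun v => ?_⟩
  let q : Submodule R S := LinearMap.range (Algebra.linearMap R S)
  have h0 : TensorProduct.mk R S (S ⧸ q) 1 (q.mkQ v) = TensorProduct.mk R S (S ⧸ q) 1 0 := by
    have := congrArg (LinearMap.lTensor S q.mkQ) (hepi v)
    rw [LinearMap.lTensor_tmul, LinearMap.lTensor_tmul] at this
    rw [map_zero]
    change (1 : S) ⊗ₜ[R] q.mkQ v = 0
    rw [← this, show q.mkQ (1 : S) = 0 from (Submodule.Quotient.mk_eq_zero _).mpr ⟨1, map_one (algebraMap R S)⟩,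
      TensorProduct.tmul_zero]
  have := Module.FaithfullyFlat.tensorProduct_mk_injective (A := R) (B := S) (S ⧸ q) h0
  exact (Submodule.Quotient.mk_eq_zero q).mp this

/-- Restrictions induce bijections of local rings. -/
theorem bijective_localRingHom (hX : X.IsSchematic) {x y : X.pt} (h : x ≤ y) (P : Ideal (X.ring y))
    [P.IsPrime] :
    Function.Bijective (Localization.localRingHom (P.comap (X.res h)) P (X.res h) rfl) := by
  set L := Localization.localRingHom (P.comap (X.res h)) P (X.res h) rfl with hL
  have hflat : L.Flat := (flat_res hX h).localRingHom P _ rfl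
  letI := L.toAlgebra
  haveI : Module.Flat (Localization.AtPrime (P.comap (X.res h))) (Localization.AtPrime P) := hflat
  haveI : IsLocalHom (algebraMap (Localization.AtPrime (P.comap (X.res h))) (Localization.AtPrime P)) :=
    Localization.isLocalHom_localRingHom _ _ _ rfl
  haveI : Module.FaithfullyFlat (Localization.AtPrime (P.comap (X.res h))) (Localization.AtPrime P) :=
    Module.FaithfullyFlat.of_flat_of_isLocalHom
  refine bijective_of_epi_faithfullyFlat fun v => ?_
  let i₁ : Localization.AtPrime P →+*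
      Localization.AtPrime P ⊗[Localization.AtPrime (P.comap (X.res h))] Localization.AtPrime P :=
    Algebra.TensorProduct.includeLeftRingHom
  let i₂ : Localization.AtPrime P →+*
      Localization.AtPrime P ⊗[Localization.AtPrime (P.comap (X.res h))] Localization.AtPrime P :=
    (Algebra.TensorProduct.includeRight (R := Localization.AtPrime (P.comap (X.res h)))).toRingHom
  have : i₁ = i₂ := by
    apply IsLocalization.ringHom_ext P.primeCompl
    apply ringHom_ext hX h
    ext r
    have hr : algebraMap (X.ring y) (Localization.AtPrime P) (X.res h r) =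
        algebraMap (Localization.AtPrime (P.comap (X.res h))) (Localization.AtPrime P)
          (algebraMap (X.ring x) _ r) := (Localization.localRingHom_to_map _ _ _ rfl r).symm
    simp only [RingHom.comp_apply]
    rw [hr]
    exact (Algebra.TensorProduct.algebraMap_apply _).symm.trans
      ((Algebra.TensorProduct.includeRight
        (R := Localization.AtPrime (P.comap (X.res h)))).commutes _).symm
  exact RingHom.congr_fun this v

theorem bijective_κMap (hX : X.IsSchematic) (a b : X.Pair) (h : a.1 ≤ b.1)
    (hp : PrimeSpectrum.comap (X.res h) b.2 = a.2) :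
    Function.Bijective (RSpace.Pair.κMap a b h hp) :=
  RingHom.SurjectiveOnStalks.residueFieldMap_bijective
    (fun P _ => (bijective_localRingHom hX h P).2) _ _ _

end Groth.Agent.SchFinLib
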