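import Groth.Agent.SchFinLib.Points

set_option backward.isDefEq.respectTransparency false
set_option backward.defeqAttrib.useBackward true

universe u

open TensorProduct

namespace Groth.Agent.SchFinLib

open SchFin

section General

variable {R S M N : Type u} [CommRing R] [CommRing S] {g : R →+* S}
  [AddCommGroup M] [AddCommGroup N] [Module R M] [Module S N]

theorem isBCAlong_of_subsingleton (f : M →ₛₗ[g] N) [Subsingleton M] [Subsingleton N] :
    IsBCAlong g f := by
  rw [isBCAlong_iff]
  letI := g.toAlgebra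
  refine ⟨fun a b _ => ?_, fun n => ⟨0, Subsingleton.elim _ _⟩⟩
  have h0 : ∀ t : S ⊗[R] M, t = 0 := fun t => by
    induction t using TensorProduct.induction_on with
    | zero => rfl
    | tmul s m => rw [Subsingleton.elim m 0, TensorProduct.tmul_zero]
    | add x y hx hy => rw [hx, hy, add_zero]
  rw [h0 a, h0 b]

/-- A semilinear bijection along an epimorphism is a base change. -/
theorem isBCAlong_of_epi
    (hepi : letI := g.toAlgebra; ∀ v : S, v ⊗ₜ[R] (1 : S) = (1 : S) ⊗ₜ[R] v)
    (f : M →ₛₗ[g] N) (hf : Function.Bijective f) : IsBCAlong g f := by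
  rw [isBCAlong_iff]
  letI := g.toAlgebra
  let e : M ≃+ N := AddEquiv.ofBijective f.toAddMonoidHom hf
  have key : ∀ (s : S) (m : M), s ⊗ₜ[R] m = (1 : S) ⊗ₜ[R] e.symm (s • e m) := by
    intro s m
    let L : S →ₗ[R] M :=
      { toFun := fun b => e.symm (b • e m)
        map_add' := fun a b => by rw [add_smul, map_add]
        map_smul' := fun r b => by
          apply e.injective
          rw [e.apply_symm_apply]
          change (r • b) • e m = f (r • e.symm (b • e m))
          rw [LinearMap.map_smulₛₗ, Algebra.smul_def, RingHom.algebraMap_toAlgebra, mul_smul]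
          exact congrArg _ (e.apply_symm_apply _).symm }
    have := congrArg (LinearMap.lTensor S L) (hepi s)
    rw [LinearMap.lTensor_tmul, LinearMap.lTensor_tmul] at this
    have h1 : L 1 = m := by
      change e.symm ((1 : S) • e m) = m
      rw [one_smul, e.symm_apply_apply]
    rw [h1] at this
    exact this
  have h1 : ∀ t : S ⊗[R] M, t = (1 : S) ⊗ₜ[R] e.symm (bcMap g f t) := by
    intro t
    induction t using TensorProduct.induction_on with
    | zero => simp
    | tmul s m => exact key s m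
    | add x y hx hy => rw [map_add, map_add, TensorProduct.tmul_add, ← hx, ← hy]
  refine ⟨fun a b hab => ?_, fun n => ⟨(1 : S) ⊗ₜ[R] e.symm n, ?_⟩⟩
  · rw [h1 a, h1 b, hab]
  · rw [bcMap_tmul, one_smul]
    exact e.apply_symm_apply n

/-- Base change to zero. -/
theorem isBCAlong_of_subsingleton_tensor
    (h : letI := g.toAlgebra; Subsingleton (S ⊗[R] M)) (f : M →ₛₗ[g] N) [Subsingleton N] :
    IsBCAlong g f := by
  rw [isBCAlong_iff]
  letI := g.toAlgebra
  exact ⟨fun a b _ => Subsingleton.elim a b, fun n => ⟨0, Subsingleton.elim _ _⟩⟩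

theorem subsingleton_tensor_of_isBCAlong (f : M →ₛₗ[g] N) [Subsingleton N] (hf : IsBCAlong g f) :
    letI := g.toAlgebra
    Subsingleton (S ⊗[R] M) := by
  rw [isBCAlong_iff] at hf
  letI := g.toAlgebra
  exact ⟨fun a b => hf.1 (Subsingleton.elim _ _)⟩

theorem epi_of_surjective (g : R →+* S) (hg : Function.Surjective g) :
    letI := g.toAlgebra
    ∀ v : S, v ⊗ₜ[R] (1 : S) = (1 : S) ⊗ₜ[R] v := by
  letI := g.toAlgebra
  intro v
  obtain ⟨r, rfl⟩ := hg v
  exact (Algebra.TensorProduct.algebraMap_apply r).symm.trans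
    ((Algebra.TensorProduct.includeRight (R := R)).commutes r).symm

theorem epi_res {X : RSpace.{u}} (hX : X.IsSchematic) {x y : X.pt} (h : x ≤ y) :
    letI := (X.res h).toAlgebra
    ∀ v : X.ring y, v ⊗ₜ[X.ring x] (1 : X.ring y) = (1 : X.ring y) ⊗ₜ[X.ring x] v := by
  letI := (X.res h).toAlgebra
  intro v
  exact (lmul'_bijective hX h).1 (by simp)

end General

variable {X : RSpace.{u}} {Ω : Type u} [Field Ω]

instance : Subsingleton (RSpace.point Ω).pt := inferInstanceAs (Subsingleton PUnit.{u + 1})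

theorem chain_point_isEmpty {U : Set (RSpace.point Ω).pt} (n : ℕ) :
    IsEmpty (Chain U (n + 1)) :=
  ⟨fun σ => absurd (σ.injective (Subtype.ext (Subsingleton.elim (σ 0).1 (σ 1).1)))
    (by simp [Fin.ext_iff])⟩

theorem subsingleton_H_succ {U : Set (RSpace.point Ω).pt} {R : Type u} [CommRing R]
    (φ : Coef (RSpace.point Ω) U R) (n : ℕ) : Subsingleton (H φ (RSpace.point Ω).str (n + 1)) := by
  haveI := chain_point_isEmpty (Ω := Ω) (U := U) n
  haveI : Subsingleton (Cochain φ (RSpace.point Ω).str (n + 1)) :=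
    ⟨fun a b => funext fun σ => isEmptyElim σ⟩
  exact (Submodule.Quotient.mk_surjective _).subsingleton

theorem subsingleton_cocycles_of_empty {Y : RSpace.{u}} {U : Set Y.pt} {R : Type u} [CommRing R]
    (φ : Coef Y U R) (M : OMod Y) (hU : ∀ q, q ∉ U) : Subsingleton (cocycles φ M 0) :=
  ⟨fun a b => Subtype.ext (cochain_ext φ M fun q => absurd q.2 (hU q.1))⟩

/-- At the point, evaluation of degree zero cocycles. -/
def pointVal {U : Set (RSpace.point Ω).pt} {R : Type u} [CommRing R]
    (φ : Coef (RSpace.point Ω) U R) (q : U) (c : cocycles φ (RSpace.point Ω).str 0) : Ω :=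
  val φ (RSpace.point Ω).str c.1 q

theorem pointVal_bijective {U : Set (RSpace.point Ω).pt} {R : Type u} [CommRing R]
    (φ : Coef (RSpace.point Ω) U R) (q : U) : Function.Bijective (pointVal φ q) := by
  refine ⟨fun a b h => Subtype.ext (cochain_ext φ _ fun q' => ?_), fun v => ?_⟩
  · obtain rfl : q' = q := Subtype.ext (Subsingleton.elim q'.1 q.1)
    exact h
  · exact ⟨⟨fun _ => v, (mem_cocycles_zero_iff φ _ _).mpr fun _ _ _ => rfl⟩, rfl⟩

/-- Criterion for a morphism from a one-point space carrying a field to be schematic. -/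
theorem isSchematic_point_iff (hX : X.IsSchematic) (f : Hom (RSpace.point Ω) X) :
    f.IsSchematic ↔ ∀ (y y' : X.pt) (hy : y ≤ y') (hb : y ≤ f.fn PUnit.unit),
      ¬ y' ≤ f.fn PUnit.unit →
        letI := (X.res hy).toAlgebra
        letI : Algebra (X.ring y) Ω := ((f.app PUnit.unit).comp (X.res hb)).toAlgebra
        Subsingleton (X.ring y' ⊗[X.ring y] Ω) := by
  constructor
  · intro hf y y' hy hb hb'
    letI := (X.res hy).toAlgebra
    letI : Algebra (X.ring y) Ω := ((f.app PUnit.unit).comp (X.res hb)).toAlgebra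
    have h0 := (hf.2.2 0 PUnit.unit PUnit.unit le_rfl y y' hy).2
    have h1 := (isBCAlong_resH_zero_iff _ (RSpace.point Ω).str (f.subTgt PUnit.unit hy)).mp h0
    haveI := subsingleton_cocycles_of_empty (Coef.ofHom f y' (f.wedge PUnit.unit y')
      (f.wedge_subset_pre PUnit.unit y')) (RSpace.point Ω).str (fun q hq => hb' hq.2)
    haveI := subsingleton_tensor_of_isBCAlong _ h1
    let φ := Coef.ofHom f y (f.wedge PUnit.unit y) (f.wedge_subset_pre PUnit.unit y)
    let q : ↥(f.wedge PUnit.unit y) := ⟨PUnit.unit, le_rfl, hb⟩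
    let L : cocycles φ (RSpace.point Ω).str 0 →ₗ[X.ring y] Ω :=
      { toFun := pointVal φ q
        map_add' := fun _ _ => rfl
        map_smul' := fun _ _ => rfl }
    exact (LinearMap.lTensor_surjective (X.ring y') (g := L) (pointVal_bijective φ q).2).subsingleton
  · intro Hz
    refine ⟨⟨fun _ => inferInstanceAs (IsNoetherianRing Ω), fun _ _ _ => RingHom.Flat.id Ω⟩, hX.1, ?_⟩
    intro n x x' hxx y y' hy
    cases n with
    | succ n =>
      haveI : ∀ (R : Type u) [CommRing R] (U : Set (RSpace.point Ω).pt)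
          (φ : Coef (RSpace.point Ω) U R), Subsingleton (H φ (RSpace.point Ω).str (n + 1)) :=
        fun R _ U φ => subsingleton_H_succ φ n
      exact ⟨isBCAlong_of_subsingleton _, isBCAlong_of_subsingleton _⟩
    | zero =>
      obtain rfl : x = x' := Subsingleton.elim _ _
      constructor
      · refine (isBCAlong_resH_zero_iff _ _ _).mpr (isBCAlong_of_epi ?_ _ ⟨?_, ?_⟩)
        · exact epi_of_surjective _ (fun v => ⟨v, rfl⟩)
        · intro a b hab
          exact Subtype.ext (cochain_ext _ _ fun q =>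
            congrFun (congrArg Subtype.val hab) (single q))
        · intro c
          exact ⟨⟨fun σ => c.1 σ, (mem_cocycles_zero_iff _ _ _).mpr fun q q' h =>
            (mem_cocycles_zero_iff _ _ c.1).mp c.2 q q' h⟩, rfl⟩
      · refine (isBCAlong_resH_zero_iff _ _ _).mpr ?_
        obtain rfl : x = PUnit.unit := Subsingleton.elim _ _
        by_cases hb' : y' ≤ f.fn PUnit.unit
        · refine isBCAlong_of_epi (epi_res hX hy) _ ⟨?_, ?_⟩
          · intro a b hab
            refine (pointVal_bijective _ (⟨PUnit.unit, le_rfl, hy.trans hb'⟩ : ↥(f.wedge PUnit.unit y))).1 ?_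
            exact congrFun (congrArg Subtype.val hab) (single (⟨PUnit.unit, le_rfl, hb'⟩ : ↥(f.wedge PUnit.unit y')))
          · intro c
            obtain ⟨a, ha⟩ := (pointVal_bijective
              (Coef.ofHom f y (f.wedge PUnit.unit y) (f.wedge_subset_pre PUnit.unit y))
              (⟨PUnit.unit, le_rfl, hy.trans hb'⟩ : ↥(f.wedge PUnit.unit y))).2 (pointVal _ (⟨PUnit.unit, le_rfl, hb'⟩ : ↥(f.wedge PUnit.unit y')) c)
            refine ⟨a, (pointVal_bijective _ (⟨PUnit.unit, le_rfl, hb'⟩ : ↥(f.wedge PUnit.unit y'))).1 ?_⟩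
            exact ha
        · haveI := subsingleton_cocycles_of_empty (Coef.ofHom f y' (f.wedge PUnit.unit y')
            (f.wedge_subset_pre PUnit.unit y')) (RSpace.point Ω).str (fun q hq => hb' hq.2)
          by_cases hb : y ≤ f.fn PUnit.unit
          · refine isBCAlong_of_subsingleton_tensor ?_ _
            letI := (X.res hy).toAlgebra
            letI : Algebra (X.ring y) Ω := ((f.app PUnit.unit).comp (X.res hb)).toAlgebra
            haveI := Hz y y' hy hb hb'
            let φ := Coef.ofHom f y (f.wedge PUnit.unit y) (f.wedge_subset_pre PUnit.unit y)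
            let L : cocycles φ (RSpace.point Ω).str 0 →ₗ[X.ring y] Ω :=
              { toFun := pointVal φ ⟨PUnit.unit, le_rfl, hb⟩
                map_add' := fun _ _ => rfl
                map_smul' := fun _ _ => rfl }
            exact (LinearEquiv.lTensor (X.ring y')
              (LinearEquiv.ofBijective L (pointVal_bijective φ ⟨PUnit.unit, le_rfl, hb⟩))).toEquiv.subsingleton
          · haveI := subsingleton_cocycles_of_empty (Coef.ofHom f y (f.wedge PUnit.unit y)
              (f.wedge_subset_pre PUnit.unit y)) (RSpace.point Ω).str (fun q hq => hb hq.2)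
            exact isBCAlong_of_subsingleton _

variable [IsAlgClosed Ω]

theorem comap_ne_ker_toField (hX : X.IsSchematic) (ξ : GeomPt X Ω) {x' : X.pt} (hx : ξ.base < x')
    (P : Ideal (X.ring x')) [P.IsPrime] : P.comap (X.res hx.le) ≠ RingHom.ker ξ.toField := by
  intro hP
  have h := (isSchematic_point_iff hX ξ.hom).mp ξ.isSchematic ξ.base x' hx.le le_rfl hx.not_ge
  letI := (X.res hx.le).toAlgebra
  letI : Algebra (X.ring ξ.base) Ω :=
    ((ξ.hom.app PUnit.unit).comp (X.res (le_refl ξ.base))).toAlgebra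
  have hΩ : ∀ r, algebraMap (X.ring ξ.base) Ω r = ξ.toField r := fun r =>
    congrArg (ξ.hom.app PUnit.unit) (X.res_self _ r)
  let a : X.Pair := ⟨ξ.base, ⟨RingHom.ker ξ.toField, RingHom.ker_isPrime _⟩⟩
  let b : X.Pair := ⟨x', ⟨P, ‹P.IsPrime›⟩⟩
  have hab : PrimeSpectrum.comap (X.res hx.le) b.2 = a.2 := PrimeSpectrum.ext hP
  let e : a.κ ≃+* b.κ :=
    RingEquiv.ofBijective (RSpace.Pair.κMap a b hx.le hab) (bijective_κMap hX a b hx.le hab)
  haveI : a.2.asIdeal.IsPrime := a.2.isPrime
  let ι : a.κ →+* Ω := Ideal.ResidueField.lift a.2.asIdeal ξ.toField le_rfl (by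
    intro r hr
    exact isUnit_iff_ne_zero.mpr hr)
  let g : X.ring x' →ₐ[X.ring ξ.base] Ω :=
    { (ι.comp (e.symm.toRingHom.comp (algebraMap (X.ring x') b.κ))) with
      commutes' := fun r => by
        rw [hΩ]
        change ι (e.symm (algebraMap (X.ring x') b.κ (X.res hx.le r))) = _
        have : e (algebraMap (X.ring ξ.base) a.κ r) = algebraMap (X.ring x') b.κ (X.res hx.le r) :=
          Ideal.ResidueField.map_algebraMap _ _ _ _ r
        rw [← this, e.symm_apply_apply]
        exact Ideal.ResidueField.lift_algebraMap _ _ _ _ r }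
  let χ := Algebra.TensorProduct.lift g (AlgHom.id (X.ring ξ.base) Ω) fun _ _ => Commute.all _ _
  have h01 : χ 1 = χ 0 := congrArg χ (Subsingleton.elim _ _)
  rw [map_one, map_zero] at h01
  exact one_ne_zero h01

theorem existsUnique_of_maximal_pair (hX : X.IsSchematic) (hff : HFF X) (a : X.Pair)
    (ha : ∀ b : X.Pair, X.PairRel a b → b.1 ≤ a.1) (φ : a.κ →+* Ω) :
    ∃! ξ : GeomPt X Ω, (⟨ξ.base, ξ.toField⟩ : Σ x : X.pt, (X.ring x →+* Ω)) =
      ⟨a.1, φ.comp (algebraMap (X.ring a.1) a.κ)⟩ := by
  let f : Hom (RSpace.point Ω) X :=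
    { fn := fun _ => a.1
      mono := fun _ _ _ => le_rfl
      app := fun _ => φ.comp (algebraMap (X.ring a.1) a.κ)
      compat := fun {q q'} h b => by
        change φ (algebraMap _ a.κ b) = φ (algebraMap _ a.κ (X.res _ b))
        rw [X.res_self] }
  have hf : f.IsSchematic := by
    rw [isSchematic_point_iff hX]
    intro y y' hy hb hb'
    letI := (X.res hy).toAlgebra
    letI : Algebra (X.ring y) Ω := ((f.app PUnit.unit).comp (X.res hb)).toAlgebra
    by_contra hne
    haveI : Nontrivial (X.ring y' ⊗[X.ring y] Ω) := not_subsingleton_iff_nontrivial.mp hne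
    obtain ⟨m, hm⟩ := Ideal.exists_maximal (X.ring y' ⊗[X.ring y] Ω)
    let Q : PrimeSpectrum (X.ring y') :=
      PrimeSpectrum.comap Algebra.TensorProduct.includeLeftRingHom ⟨m, hm.isPrime⟩
    have hQ : PrimeSpectrum.comap (X.res hb) a.2 = PrimeSpectrum.comap (X.res hy) Q := by
      refine PrimeSpectrum.ext (Ideal.ext fun r => ?_)
      change X.res hb r ∈ a.2.asIdeal ↔
        (X.res hy r ⊗ₜ[X.ring y] (1 : Ω) : X.ring y' ⊗[X.ring y] Ω) ∈ m
      rw [show (X.res hy r ⊗ₜ[X.ring y] (1 : Ω) : X.ring y' ⊗[X.ring y] Ω) =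
          (1 : X.ring y') ⊗ₜ[X.ring y] (algebraMap (X.ring y) Ω r) from
        (Algebra.TensorProduct.algebraMap_apply r).symm.trans
          ((Algebra.TensorProduct.includeRight (R := X.ring y)).commutes r).symm]
      by_cases hr : algebraMap (X.ring y) Ω r = 0
      · rw [hr, TensorProduct.tmul_zero]
        refine iff_of_true ?_ m.zero_mem
        have : φ (algebraMap (X.ring a.1) a.κ (X.res hb r)) = 0 := hr
        rwa [map_eq_zero_iff _ φ.injective, Ideal.algebraMap_residueField_eq_zero] at this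
      · refine iff_of_false (fun h => hr ?_) (fun h => hm.ne_top (m.eq_top_of_isUnit_mem h ?_))
        · change φ (algebraMap (X.ring a.1) a.κ (X.res hb r)) = 0
          rw [Ideal.algebraMap_residueField_eq_zero.mpr h, map_zero]
        · exact ((Algebra.TensorProduct.includeRight (R := X.ring y)
            (A := X.ring y') (B := Ω)).toRingHom.isUnit_map (isUnit_iff_ne_zero.mpr hr))
    exact hb' (ha ⟨y', Q⟩ (pairRel_of_comap_eq hX hff hb hy a.2 Q hQ))
  refine ⟨⟨f, hf⟩, rfl, ?_⟩
  rintro ⟨⟨fn, mono, app, compat⟩, hs⟩ heq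
  obtain ⟨h1, h2⟩ := Sigma.mk.inj heq
  obtain rfl : fn = fun _ => a.1 := funext fun _ => h1
  have h3 : app = fun _ => φ.comp (algebraMap (X.ring a.1) a.κ) := funext fun _ => eq_of_heq h2
  subst h3
  rfl

end Groth.Agent.SchFinLib
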