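import Groth.Agent.SchFinLib.Epi

set_option backward.isDefEq.respectTransparency false
set_option backward.defeqAttrib.useBackward true

universe u

open TensorProduct

namespace Groth.Agent.SchFinLib

open SchFin

variable {X : RSpace.{u}}

/-- The hypothesis on faithful flatness of the sections over intersections. -/
abbrev HFF (X : RSpace.{u}) : Prop :=
  ∀ s a b : X.pt, s ≤ a → s ≤ b → (X.up a ∩ X.up b).Nonempty →
    Module.FaithfullyFlat (X.sectRing (X.up a ∩ X.up b)) ((q : ↥(X.up a ∩ X.up b)) → X.ring q.1)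

/-- Two primes over the same prime give a prime of the sections over the intersection. -/
theorem exists_prime_sectRing (hX : X.IsSchematic) {s a b : X.pt} (ha : s ≤ a) (hb : s ≤ b)
    (P : PrimeSpectrum (X.ring a)) (Q : PrimeSpectrum (X.ring b))
    (hPQ : PrimeSpectrum.comap (X.res ha) P = PrimeSpectrum.comap (X.res hb) Q) :
    ∃ r : PrimeSpectrum (X.sectRing (X.up a ∩ X.up b)),
      PrimeSpectrum.comap (X.resSect a _ Set.inter_subset_left) r = P ∧
        PrimeSpectrum.comap (X.resSect b _ Set.inter_subset_right) r = Q := by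
  letI := (X.res ha).toAlgebra
  letI := (X.res hb).toAlgebra
  let c : X.Pair := ⟨s, PrimeSpectrum.comap (X.res ha) P⟩
  let ea : c.κ ≃+* P.asIdeal.ResidueField :=
    RingEquiv.ofBijective (RSpace.Pair.κMap c ⟨a, P⟩ ha rfl) (bijective_κMap hX c ⟨a, P⟩ ha rfl)
  let eb : c.κ ≃+* Q.asIdeal.ResidueField :=
    RingEquiv.ofBijective (RSpace.Pair.κMap c ⟨b, Q⟩ hb hPQ.symm)
      (bijective_κMap hX c ⟨b, Q⟩ hb hPQ.symm)
  have hca : ∀ r : X.ring s, ea (algebraMap (X.ring s) c.κ r) =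
      algebraMap (X.ring a) P.asIdeal.ResidueField (X.res ha r) :=
    fun r => Ideal.ResidueField.map_algebraMap _ _ _ _ r
  have hcb : ∀ r : X.ring s, eb (algebraMap (X.ring s) c.κ r) =
      algebraMap (X.ring b) Q.asIdeal.ResidueField (X.res hb r) :=
    fun r => Ideal.ResidueField.map_algebraMap _ _ _ _ r
  let ga : X.ring a →ₐ[X.ring s] c.κ :=
    { (ea.symm.toRingHom.comp (algebraMap (X.ring a) P.asIdeal.ResidueField)) with
      commutes' := fun r => (congrArg ea.symm (hca r).symm).trans (ea.symm_apply_apply _) }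
  let gb : X.ring b →ₐ[X.ring s] c.κ :=
    { (eb.symm.toRingHom.comp (algebraMap (X.ring b) Q.asIdeal.ResidueField)) with
      commutes' := fun r => (congrArg eb.symm (hcb r).symm).trans (eb.symm_apply_apply _) }
  let χ : X.ring a ⊗[X.ring s] X.ring b →+* c.κ :=
    (Algebra.TensorProduct.lift ga gb fun _ _ => Commute.all _ _).toRingHom
  let e := RingEquiv.ofBijective (pairMap ha hb) (pairMap_bijective hX ha hb)
  refine ⟨⟨RingHom.ker (χ.comp e.symm.toRingHom), RingHom.ker_isPrime _⟩, ?_, ?_⟩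
  · ext u
    change χ (e.symm (X.resSect a _ Set.inter_subset_left u)) = 0 ↔ _
    rw [show X.resSect a (X.up a ∩ X.up b) Set.inter_subset_left u = e (u ⊗ₜ 1) from
      Subtype.ext (funext fun q => by
        change _ = X.res q.2.1 u * X.res q.2.2 1
        rw [map_one, mul_one]
        rfl), e.symm_apply_apply]
    change ga u * gb 1 = 0 ↔ _
    rw [map_one, mul_one]
    change ea.symm (algebraMap _ P.asIdeal.ResidueField u) = 0 ↔ _
    rw [map_eq_zero_iff _ ea.symm.injective, Ideal.algebraMap_residueField_eq_zero]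
  · ext v
    change χ (e.symm (X.resSect b _ Set.inter_subset_right v)) = 0 ↔ _
    rw [show X.resSect b (X.up a ∩ X.up b) Set.inter_subset_right v = e (1 ⊗ₜ v) from
      Subtype.ext (funext fun q => by
        change _ = X.res q.2.1 1 * X.res q.2.2 v
        rw [map_one, one_mul]
        rfl), e.symm_apply_apply]
    change ga 1 * gb v = 0 ↔ _
    rw [map_one, one_mul]
    change eb.symm (algebraMap _ Q.asIdeal.ResidueField v) = 0 ↔ _
    rw [map_eq_zero_iff _ eb.symm.injective, Ideal.algebraMap_residueField_eq_zero]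

theorem pairRel_of_comap_eq (hX : X.IsSchematic) (hff : HFF X) {s x y : X.pt} (hx : s ≤ x)
    (hy : s ≤ y) (P : PrimeSpectrum (X.ring x)) (Q : PrimeSpectrum (X.ring y))
    (hPQ : PrimeSpectrum.comap (X.res hx) P = PrimeSpectrum.comap (X.res hy) Q) :
    X.PairRel ⟨x, P⟩ ⟨y, Q⟩ := by
  obtain ⟨r, hrP, hrQ⟩ := exists_prime_sectRing hX hx hy P Q hPQ
  have hne : (X.up x ∩ X.up y).Nonempty := by
    by_contra hempty
    haveI : IsEmpty ↥(X.up x ∩ X.up y) := Set.isEmpty_coe_sort.mpr (Set.not_nonempty_iff_eq_empty.mp hempty)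
    haveI : Subsingleton (X.sectRing (X.up x ∩ X.up y)) :=
      ⟨fun a b => Subtype.ext (funext fun q => isEmptyElim q)⟩
    exact r.isPrime.ne_top (Subsingleton.elim _ _)
  haveI := hff s x y hx hy hne
  haveI : Fintype ↥(X.up x ∩ X.up y) := Fintype.ofFinite _
  obtain ⟨r', hr'⟩ := PrimeSpectrum.comap_surjective_of_faithfullyFlat
    (A := X.sectRing (X.up x ∩ X.up y)) (B := (q : ↥(X.up x ∩ X.up y)) → X.ring q.1) r
  obtain ⟨⟨q, t⟩, hqt⟩ := (PrimeSpectrum.sigmaToPi_bijective fun q : ↥(X.up x ∩ X.up y) =>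
    X.ring q.1).2 r'
  refine ⟨q.1, q.2.1, q.2.2, t, ?_, ?_⟩
  · rw [← hrP, ← hr', ← hqt]
    rfl
  · rw [← hrQ, ← hr', ← hqt]
    rfl

theorem pairRel_refl (a : X.Pair) : X.PairRel a a :=
  ⟨a.1, le_rfl, le_rfl, a.2,
    PrimeSpectrum.ext (Ideal.ext fun r => by
      change X.res _ r ∈ a.2.asIdeal ↔ _
      rw [X.res_self]),
    PrimeSpectrum.ext (Ideal.ext fun r => by
      change X.res _ r ∈ a.2.asIdeal ↔ _
      rw [X.res_self])⟩

theorem comap_res_comp {p q t : X.pt} (h : p ≤ q) (h' : q ≤ t) (r : PrimeSpectrum (X.ring t)) :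
    PrimeSpectrum.comap (X.res h) (PrimeSpectrum.comap (X.res h') r) =
      PrimeSpectrum.comap (X.res (h.trans h')) r :=
  PrimeSpectrum.ext (Ideal.ext fun a => by
    change X.res h' (X.res h a) ∈ r.asIdeal ↔ _
    rw [X.res_comp]
    rfl)

theorem equivalence_pairRel (hX : X.IsSchematic) (hff : HFF X) : Equivalence X.PairRel where
  refl := pairRel_refl
  symm := fun ⟨z, hx, hy, r, h1, h2⟩ => ⟨z, hy, hx, r, h2, h1⟩
  trans := by
    rintro a b c ⟨z, haz, hbz, r, ha, hb⟩ ⟨w, hbw, hcw, r', hb', hc⟩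
    obtain ⟨v, hzv, hwv, t, ht, ht'⟩ :=
      pairRel_of_comap_eq hX hff hbz hbw r r' (hb.trans hb'.symm)
    refine ⟨v, haz.trans hzv, hcw.trans hwv, t, ?_, ?_⟩
    · rw [← comap_res_comp haz hzv, ht, ha]
    · rw [← comap_res_comp hcw hwv, ht', hc]

theorem existsUnique_maximal_pair (hX : X.IsSchematic) (hff : HFF X) (c : X.SchPt) :
    ∃! a : X.Pair, Quot.mk X.PairRel a = c ∧
      ∀ b : X.Pair, Quot.mk X.PairRel b = c → b.1 ≤ a.1 := by
  have heq := equivalence_pairRel hX hff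
  have hrel : ∀ {a b : X.Pair}, Quot.mk X.PairRel a = c → Quot.mk X.PairRel b = c → X.PairRel a b :=
    fun ha hb => heq.eqvGen_iff.mp (Quot.eq.mp (ha.trans hb.symm))
  obtain ⟨a₀, ha₀⟩ := Quot.exists_rep c
  obtain ⟨m, ⟨a, ha, rfl⟩, hmax⟩ := Set.Finite.exists_maximal
    (s := {p : X.pt | ∃ a : X.Pair, Quot.mk X.PairRel a = c ∧ a.1 = p}) (Set.toFinite _)
    ⟨a₀.1, a₀, ha₀, rfl⟩
  have hle : ∀ b : X.Pair, Quot.mk X.PairRel b = c → b.1 ≤ a.1 := by
    intro b hb
    obtain ⟨z, hbz, haz, r, h1, h2⟩ := hrel hb ha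
    have hz : Quot.mk X.PairRel (⟨z, r⟩ : X.Pair) = c := by
      rw [← ha]
      exact Quot.sound ⟨z, le_rfl, haz, r, PrimeSpectrum.ext (Ideal.ext fun t => by
        change X.res _ t ∈ r.asIdeal ↔ _
        rw [X.res_self]), h2⟩
    exact hbz.trans (hmax ⟨⟨z, r⟩, hz, rfl⟩ haz)
  refine ⟨a, ⟨ha, hle⟩, ?_⟩
  rintro ⟨p, P⟩ ⟨hP, hPmax⟩
  obtain ⟨z, hpz, haz, r, h1, h2⟩ := hrel hP ha
  have hz : Quot.mk X.PairRel (⟨z, r⟩ : X.Pair) = c := by
    rw [← ha]
    exact Quot.sound ⟨z, le_rfl, haz, r, PrimeSpectrum.ext (Ideal.ext fun t => by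
      change X.res _ t ∈ r.asIdeal ↔ _
      rw [X.res_self]), h2⟩
  obtain rfl : z = p := le_antisymm (hPmax _ hz) hpz
  obtain ⟨x, Q⟩ := a
  obtain rfl : z = x := le_antisymm (hle _ hz) haz
  exact congrArg _ (h1.symm.trans h2)

end Groth.Agent.SchFinLib
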