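import Mathlib

universe u

open TensorProduct

namespace Groth.Agent.SchFinLib

theorem flat_pi {R : Type u} [CommRing R] {ι : Type u} [Finite ι] (M : ι → Type u)
    [∀ i, AddCommGroup (M i)] [∀ i, Module R (M i)] [∀ i, Module.Flat R (M i)] :
    Module.Flat R (∀ i, M i) := by
  classical
  haveI : Fintype ι := Fintype.ofFinite ι
  exact Module.Flat.of_linearEquiv (DirectSum.linearEquivFunOnFintype R ι M).symm

theorem etale_fixed_local {R A D : Type u} [CommRing R] [CommRing A] [Algebra R A] [CommRing D]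
    [Algebra R D] [Module.Flat R D] {G : Type u} [Finite G] (σ : G → A →ₐ[R] A) (F : Subalgebra R A)
    (hF : ∀ a, a ∈ F ↔ ∀ g, σ g a = a) {n : ℕ} (θ : D ⊗[R] A →ₐ[D] (Fin n → D))
    (hθ : Function.Bijective θ) (φ : G → Fin n → Fin n)
    (hperm : ∀ g (z : D ⊗[R] A) i, θ (LinearMap.lTensor D (σ g).toLinearMap z) i = θ z (φ g i)) :
    Algebra.Etale D (D ⊗[R] F) := by
  classical
  haveI : Fintype G := Fintype.ofFinite G
  let χ : D ⊗[R] F →ₐ[D] D ⊗[R] A := Algebra.TensorProduct.map (AlgHom.id _ _) F.val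
  have hχinj : Function.Injective χ :=
    Module.Flat.lTensor_preserves_injective_linearMap (M := D) F.val.toLinearMap
      Subtype.val_injective
  let d : A →ₗ[R] (G → A) := LinearMap.pi fun g => (σ g).toLinearMap - LinearMap.id
  have hex : Function.Exact F.val.toLinearMap d := by
    intro x
    refine ⟨fun hx => ⟨⟨x, (hF x).mpr fun g => sub_eq_zero.mp (congrFun hx g)⟩, rfl⟩, ?_⟩
    rintro ⟨⟨y, hy⟩, rfl⟩
    exact funext fun g => sub_eq_zero.mpr ((hF y).mp hy g)
  have hfix : ∀ (w : D ⊗[R] F) g i, θ (χ w) (φ g i) = θ (χ w) i := by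
    intro w g i
    rw [← hperm g (χ w) i]
    refine congrFun (congrArg θ ?_) i
    induction w using TensorProduct.induction_on with
    | zero => simp
    | tmul t x =>
      change t ⊗ₜ[R] σ g x.1 = t ⊗ₜ[R] x.1
      rw [(hF x.1).mp x.2 g]
    | add x y hx hy => simp only [map_add, hx, hy]
  let Orb := Quot fun i j : Fin n => ∃ g, φ g i = j
  haveI : Finite Orb := Finite.of_surjective (Quot.mk _) Quot.mk_surjective
  let Λ : D ⊗[R] F →ₐ[D] (Orb → D) :=
    { toFun := fun w => Quot.lift (θ (χ w)) (fun i j ⟨g, hg⟩ => by rw [← hg, hfix])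
      map_one' := funext fun o => Quot.inductionOn o fun i => by
        change θ (χ 1) i = 1
        simp
      map_mul' := fun x y => funext fun o => Quot.inductionOn o fun i => by
        change θ (χ (x * y)) i = θ (χ x) i * θ (χ y) i
        simp
      map_zero' := funext fun o => Quot.inductionOn o fun i => by
        change θ (χ 0) i = 0
        simp
      map_add' := fun x y => funext fun o => Quot.inductionOn o fun i => by
        change θ (χ (x + y)) i = θ (χ x) i + θ (χ y) i
        simp
      commutes' := fun r => funext fun o => Quot.inductionOn o fun i => by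
        change θ (χ (algebraMap _ _ r)) i = r
        rw [AlgHom.commutes, AlgHom.commutes]
        rfl }
  have hΛ : Function.Bijective Λ := by
    refine ⟨fun x y hxy => hχinj (hθ.1 (funext fun i => congrFun hxy (Quot.mk _ i))), fun v => ?_⟩
    obtain ⟨z, hz⟩ := hθ.2 (fun i => v (Quot.mk _ i))
    have h0 : LinearMap.lTensor (D) d z = 0 := by
      apply (TensorProduct.piRight R R (D) (fun _ : G => A)).injective
      rw [map_zero]
      funext g
      have hgz : LinearMap.lTensor (D) ((σ g).toLinearMap - LinearMap.id) z = 0 := by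
        rw [LinearMap.lTensor_sub, LinearMap.sub_apply, sub_eq_zero]
        apply hθ.1
        funext i
        rw [hperm, LinearMap.lTensor_id, LinearMap.id_apply, hz]
        exact congrArg v (Quot.sound ⟨g, rfl⟩).symm
      refine Eq.trans ?_ hgz
      clear hgz hz
      induction z using TensorProduct.induction_on with
      | zero => simp
      | tmul t x => rfl
      | add x y hx hy => simp only [map_add, Pi.add_apply, hx, hy]
    obtain ⟨w, rfl⟩ := ((Module.Flat.lTensor_exact (D) hex) z).mp h0
    exact ⟨w, funext fun o => Quot.inductionOn o fun i => congrFun hz i⟩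
  exact Algebra.Etale.of_equiv (AlgEquiv.ofBijective Λ hΛ).symm

theorem etale_pi_base {R F : Type u} [CommRing R] [CommRing F] [Algebra R F] {Φ : Type u}
    [Fintype Φ] [DecidableEq Φ] (D : Φ → Type u) [∀ φ, CommRing (D φ)] [∀ φ, Algebra R (D φ)]
    (hD : ∀ φ, Algebra.Etale (D φ) (D φ ⊗[R] F)) :
    Algebra.Etale (∀ φ, D φ) ((∀ φ, D φ) ⊗[R] F) := by
  let e : (∀ φ, D φ) ⊗[R] F ≃ₐ[R] ∀ φ, D φ ⊗[R] F :=
    (Algebra.TensorProduct.comm R (∀ φ, D φ) F).trans
      ((Algebra.TensorProduct.piRight R R F D).trans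
        (AlgEquiv.piCongrRight fun φ => Algebra.TensorProduct.comm R F (D φ)))
  letI : ∀ φ, Algebra (∀ φ, D φ) (D φ) := fun φ => (Pi.evalRingHom D φ).toAlgebra
  haveI : ∀ φ, SMulCommClass R (∀ φ, D φ) (D φ) := fun φ => ⟨fun r t d => by
    change r • ((t φ) * d) = (t φ) * (r • d)
    rw [mul_smul_comm]⟩
  haveI : ∀ φ, IsScalarTower (∀ φ, D φ) (D φ) (D φ) := fun φ => ⟨fun t d z => by
    change (t φ * d) * z = t φ * (d * z)
    rw [mul_assoc]⟩
  haveI : ∀ φ, Algebra.Etale (∀ φ, D φ) (D φ) := fun φ => by
    haveI : IsLocalization.Away (Pi.single φ (1 : D φ) : (∀ φ, D φ)) (D φ) :=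
      IsLocalization.away_of_isIdempotentElem
        (show IsIdempotentElem (Pi.single φ (1 : D φ) : (∀ φ, D φ)) by
          change (Pi.single φ (1 : D φ) : (∀ φ, D φ)) * Pi.single φ 1 = Pi.single φ 1
          rw [← Pi.single_mul, one_mul])
        (by
          ext t
          change t φ = 0 ↔ t ∈ Ideal.span {1 - (Pi.single φ (1 : D φ) : (∀ φ, D φ))}
          rw [Ideal.mem_span_singleton]
          refine ⟨fun ht => ⟨t, funext fun k => ?_⟩, fun ⟨c, hc⟩ => by rw [hc]; simp⟩
          by_cases hk : k = φ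
          · subst hk; simp [ht]
          · simp [hk])
        (fun x => ⟨Pi.single φ x, Pi.single_eq_same φ x⟩)
    exact Algebra.Etale.of_isLocalizationAway (Pi.single φ (1 : D φ) : (∀ φ, D φ))
  haveI : ∀ φ, Algebra.Etale (∀ φ, D φ) (D φ ⊗[R] F) := fun φ => Algebra.Etale.comp (∀ φ, D φ) (D φ) _
  haveI hpi : Algebra.Etale (∀ φ, D φ) (∀ φ, D φ ⊗[R] F) := by
    have hf : ∀ φ, Algebra.FormallyEtale (∀ φ, D φ) (D φ ⊗[R] F) := fun φ => inferInstance
    have hp : ∀ φ, Algebra.FinitePresentation (∀ φ, D φ) (D φ ⊗[R] F) := fun φ => inferInstance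
    exact { formallyEtale := (Algebra.FormallyEtale.pi_iff (fun φ => D φ ⊗[R] F)).mpr hf
            finitePresentation := Algebra.FinitePresentation.pi (fun φ => D φ ⊗[R] F) }
  refine Algebra.Etale.of_equiv (A := ∀ φ, D φ ⊗[R] F)
    (AlgEquiv.ofRingEquiv (f := e.symm.toRingEquiv) fun t => ?_)
  apply e.injective
  refine (e.apply_symm_apply _).trans ?_
  funext φ
  change (t φ) ⊗ₜ[R] (1 : F) = _
  rfl

theorem etale_fixed_aux {R A : Type u} [CommRing R] [CommRing A] [Algebra R A]
    {G : Type u} [Fintype G] (σ : G → A →ₐ[R] A) (F : Subalgebra R A)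
    (hF : ∀ a, a ∈ F ↔ ∀ g, σ g a = a) {C : Type u} [CommRing C] [Algebra R C]
    [Module.FaithfullyFlat R C] {n : ℕ} (ψ : C ⊗[R] A ≃ₐ[C] (Fin n → C))
    (a : A →ₐ[R] (Fin n → C)) (ha : ∀ x i, a x i = ψ ((1 : C) ⊗ₜ[R] x) i)
    (E : G → Fin n → Fin n → C)
    (hσ : ∀ g (x : A) i, a (σ g x) i = ∑ j, a x j * E g i j)
    (hidem : ∀ g i j, IsIdempotentElem (E g i j))
    (horth : ∀ g i j k, j ≠ k → E g i j * E g i k = 0)
    (hsum : ∀ g i, ∑ j, E g i j = 1) : Algebra.Etale R F := by
  classical
  -- the covering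
  let Φ := G → Fin n → Fin n
  let f : Φ → C := fun φ => ∏ p : G × Fin n, E p.1 p.2 (φ p.1 p.2)
  let D : Φ → Type u := fun φ => Localization.Away (f φ)
  let T := ∀ φ, D φ
  haveI : ∀ φ, Module.Flat C (D φ) := fun φ => IsLocalization.flat (D φ) (Submonoid.powers (f φ))
  haveI : Module.Flat C T := flat_pi D
  haveI : Module.FaithfullyFlat C T := by
    refine Module.FaithfullyFlat.of_comap_surjective fun P => ?_
    have hex : ∀ p : G × Fin n, ∃ j, E p.1 p.2 j ∉ P.asIdeal := by
      intro p
      by_contra hall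
      push Not at hall
      exact P.isPrime.ne_top ((Ideal.eq_top_iff_one _).mpr
        (hsum p.1 p.2 ▸ P.asIdeal.sum_mem fun j _ => hall j))
    choose j hj using hex
    let φ : Φ := fun g i => j (g, i)
    have hf : f φ ∉ P.asIdeal := fun h =>
      (P.isPrime.prod_mem_iff.mp h).elim fun p hp => hj p hp.2
    have hmem : P ∈ Set.range (PrimeSpectrum.comap (algebraMap C (D φ))) := by
      rw [PrimeSpectrum.localization_away_comap_range (D φ) (f φ)]
      exact hf
    obtain ⟨Q, hQ⟩ := hmem
    refine ⟨PrimeSpectrum.comap (Pi.evalRingHom D φ) Q, ?_⟩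
    rw [← hQ]
    rfl
  haveI : Module.Flat R T := Module.Flat.trans R C T
  haveI : Module.FaithfullyFlat R T := Module.FaithfullyFlat.trans R C T
  -- the fixed algebra after base change to each member of the covering
  have hD : ∀ φ : Φ, Algebra.Etale (D φ) (D φ ⊗[R] F) := by
    intro φ
    haveI : Module.Flat R (D φ) := Module.Flat.trans R C (D φ)
    let θ : D φ ⊗[R] A →ₐ[D φ] (Fin n → D φ) :=
      Algebra.TensorProduct.lift (Algebra.ofId (D φ) _)
        ((AlgHom.compLeft (IsScalarTower.toAlgHom R C (D φ)) (Fin n)).comp a)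
        (fun _ _ => Commute.all _ _)
    have hθ : Function.Bijective θ := by
      let e : D φ ⊗[R] A ≃ₗ[D φ] (Fin n → D φ) :=
        (AlgebraTensorModule.cancelBaseChange R C (D φ) (D φ) A).symm.trans
          ((AlgebraTensorModule.congr (LinearEquiv.refl (D φ) (D φ)) ψ.toLinearEquiv).trans
            (TensorProduct.piScalarRight C (D φ) (D φ) (Fin n)))
      have : ∀ z, θ z = e z := by
        intro z
        induction z using TensorProduct.induction_on with
        | zero => simp
        | tmul d x =>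
          funext i
          change d * algebraMap C (D φ) (a x i) = (ψ ((1 : C) ⊗ₜ[R] x) i) • d
          rw [Algebra.smul_def, mul_comm, ha]
        | add x y hx hy => simp only [map_add, hx, hy]
      rw [show ⇑θ = ⇑e from funext this]
      exact e.bijective
    have hunit : ∀ g i, algebraMap C (D φ) (E g i (φ g i)) = 1 := by
      intro g i
      have hu : IsUnit (algebraMap C (D φ) (f φ)) := IsLocalization.Away.algebraMap_isUnit (f φ)
      have hdvd : E g i (φ g i) ∣ f φ :=
        Finset.dvd_prod_of_mem (fun p : G × Fin n => E p.1 p.2 (φ p.1 p.2)) (Finset.mem_univ (g, i))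
      exact (IsIdempotentElem.iff_eq_one_of_isUnit (isUnit_of_dvd_unit (map_dvd _ hdvd) hu)).mp
        ((hidem g i (φ g i)).map _)
    have hzero : ∀ g i j, j ≠ φ g i → algebraMap C (D φ) (E g i j) = 0 := by
      intro g i j hj
      have := congrArg (algebraMap C (D φ)) (horth g i j (φ g i) hj)
      rwa [map_mul, hunit, mul_one, map_zero] at this
    have hperm : ∀ g (z : D φ ⊗[R] A) i,
        θ (LinearMap.lTensor (D φ) (σ g).toLinearMap z) i = θ z (φ g i) := by
      intro g z i
      induction z using TensorProduct.induction_on with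
      | zero => simp
      | tmul d x =>
        change d * algebraMap C (D φ) (a (σ g x) i) = d * algebraMap C (D φ) (a x (φ g i))
        rw [hσ, map_sum, Finset.sum_eq_single (φ g i)]
        · rw [map_mul, hunit, mul_one]
        · intro j _ hj
          rw [map_mul, hzero g i j hj, mul_zero]
        · simp
      | add x y hx hy => simp only [map_add, Pi.add_apply, hx, hy]
    exact etale_fixed_local σ F hF θ hθ φ hperm
  haveI : Algebra.Etale T (T ⊗[R] F) := by
    exact etale_pi_base D hD
  exact Algebra.Etale.of_etale_tensorProduct_of_faithfullyFlat T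


/-- Fixed subalgebras of locally split finite étale algebras are étale. -/
theorem etale_fixed {R A : Type u} [CommRing R] [IsNoetherianRing R] [CommRing A] [Algebra R A]
    [Module.Finite R A] {G : Type u} [Finite G] (σ : G → A →ₐ[R] A) (F : Subalgebra R A)
    (hF : ∀ a, a ∈ F ↔ ∀ g, σ g a = a) {C : Type u} [CommRing C] [Algebra R C]
    [Module.FaithfullyFlat R C] {n : ℕ} (ψ : C ⊗[R] A ≃ₐ[C] (Fin n → C)) :
    Module.Finite R F ∧ Algebra.Etale R F := by
  classical
  haveI : Fintype G := Fintype.ofFinite G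
  haveI : Module.Finite R F := Module.Finite.of_injective F.val.toLinearMap Subtype.val_injective
  refine ⟨this, ?_⟩
  let a : A →ₐ[R] (Fin n → C) :=
    (ψ.toAlgHom.restrictScalars R).comp Algebra.TensorProduct.includeRight
  let E : G → Fin n → Fin n → C := fun g i j =>
    ψ ((LinearMap.lTensor C (σ g).toLinearMap) (ψ.symm (Pi.single j 1))) i
  have hlin : ∀ g (z : C ⊗[R] A), (LinearMap.lTensor C (σ g).toLinearMap) z =
      Algebra.TensorProduct.map (AlgHom.id C C) (σ g) z := fun g z => rfl
  have hσ : ∀ g (x : A) i, a (σ g x) i = ∑ j, a x j * E g i j := by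
    intro g x i
    have h1 : (1 : C) ⊗ₜ[R] x = ∑ j, a x j • ψ.symm (Pi.single j 1) := by
      apply ψ.injective
      rw [map_sum]
      funext k
      simp [a, Finset.sum_apply, Pi.single_apply]
    have h2 : (1 : C) ⊗ₜ[R] σ g x =
        ∑ j, a x j • (LinearMap.lTensor C (σ g).toLinearMap) (ψ.symm (Pi.single j 1)) := by
      simp only [hlin]
      rw [show (1 : C) ⊗ₜ[R] σ g x =
        Algebra.TensorProduct.map (AlgHom.id C C) (σ g) (1 ⊗ₜ x) from rfl, h1, map_sum]
      simp
    change ψ ((1 : C) ⊗ₜ[R] σ g x) i = _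
    rw [h2, map_sum, Finset.sum_apply]
    simp [E]
  have hidem : ∀ g i j, IsIdempotentElem (E g i j) := by
    intro g i j
    change E g i j * E g i j = E g i j
    simp only [E, hlin]
    rw [← Pi.mul_apply, ← map_mul, ← map_mul, ← map_mul, ← Pi.single_mul, one_mul]
  have horth : ∀ g i j k, j ≠ k → E g i j * E g i k = 0 := by
    intro g i j k hjk
    simp only [E, hlin]
    rw [← Pi.mul_apply, ← map_mul, ← map_mul, ← map_mul,
      show (Pi.single j (1 : C) : Fin n → C) * Pi.single k 1 = 0 by
        funext l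
        by_cases hl : l = j
        · subst hl; simp [hjk]
        · simp [hl]]
    simp
  have hsum : ∀ g i, ∑ j, E g i j = 1 := by
    intro g i
    have := hσ g 1 i
    simpa using this.symm
  exact etale_fixed_aux σ F hF ψ a (fun x i => rfl) E hσ hidem horth hsum

end Groth.Agent.SchFinLib
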