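import Groth.Agent.SchFinLib.Basic
import Groth.Agent.SchFinLib.EtFixed
import Mathlib.RingTheory.Etale.Descent
import Mathlib.RingTheory.RingHom.FaithfullyFlat
import Groth.Prelude.Def_SchFin2

set_option backward.isDefEq.respectTransparency false
set_option backward.defeqAttrib.useBackward true
set_option synthInstance.maxHeartbeats 400000
set_option maxHeartbeats 1600000

universe u

open TensorProduct

namespace Groth.Agent.SchFinLib

open SchFin

/-! ### Detection along a faithfully flat finite product -/

section Pi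

variable {A : Type u} [CommRing A] {ι : Type u} [Finite ι] (C : ι → Type u) [∀ i, CommRing (C i)]
  [∀ i, Algebra A (C i)] [Module.FaithfullyFlat A (∀ i, C i)]

theorem lTensor_pi_apply {N N' : Type u} [AddCommGroup N] [Module A N] [AddCommGroup N']
    [Module A N'] [Fintype ι] [DecidableEq ι] (φ : N →ₗ[A] N') (z : (∀ i, C i) ⊗[A] N) (i : ι) :
    TensorProduct.piLeft A N' C (LinearMap.lTensor (∀ i, C i) φ z) i
      = LinearMap.lTensor (C i) φ (TensorProduct.piLeft A N C z i) := by
  induction z using TensorProduct.induction_on with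
  | zero => simp
  | tmul c n => simp
  | add x y hx hy => simp only [map_add, Pi.add_apply, hx, hy]

theorem injective_of_pi {N N' : Type u} [AddCommGroup N] [Module A N] [AddCommGroup N']
    [Module A N'] (φ : N →ₗ[A] N') (h : ∀ i, Function.Injective (LinearMap.lTensor (C i) φ)) :
    Function.Injective φ := by
  classical
  cases nonempty_fintype ι
  rw [← Module.FaithfullyFlat.lTensor_injective_iff_injective A (∀ i, C i)]
  intro a b hab
  apply (TensorProduct.piLeft A N C).injective
  funext i
  apply h i
  rw [← lTensor_pi_apply, ← lTensor_pi_apply, hab]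

theorem surjective_of_pi {N N' : Type u} [AddCommGroup N] [Module A N] [AddCommGroup N']
    [Module A N'] (φ : N →ₗ[A] N') (h : ∀ i, Function.Surjective (LinearMap.lTensor (C i) φ)) :
    Function.Surjective φ := by
  classical
  cases nonempty_fintype ι
  rw [← Module.FaithfullyFlat.lTensor_surjective_iff_surjective A (∀ i, C i)]
  intro b
  choose a ha using fun i => h i (TensorProduct.piLeft A N' C b i)
  refine ⟨(TensorProduct.piLeft A N C).symm a, (TensorProduct.piLeft A N' C).injective ?_⟩
  funext i
  rw [lTensor_pi_apply, LinearEquiv.apply_symm_apply, ha]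

theorem subsingleton_of_pi {N : Type u} [AddCommGroup N] [Module A N]
    (h : ∀ i, Subsingleton (C i ⊗[A] N)) : Subsingleton N := by
  have := injective_of_pi C (0 : N →ₗ[A] PUnit.{u+1}) (fun i a b _ => Subsingleton.elim a b)
  exact this.subsingleton

theorem flat_component (i : ι) : Module.Flat A (C i) := by
  classical
  refine Module.Flat.of_retract (LinearMap.single A C i) (LinearMap.proj i) ?_
  ext x
  simp

variable (B : Type u) [CommRing B] [Algebra A B]

theorem flat_of_pi (h : ∀ i, Module.Flat (C i) (C i ⊗[A] B)) : Module.Flat A B := by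
  rw [Module.Flat.iff_lTensor_preserves_injective_linearMap]
  intro M M' _ _ _ _ f hf
  refine injective_of_pi C _ fun i => ?_
  haveI := h i
  haveI := flat_component (A := A) C i
  haveI : Module.Flat A (C i ⊗[A] B) := Module.Flat.trans A (C i) _
  have : LinearMap.lTensor (C i) (LinearMap.lTensor B f) =
      (TensorProduct.assoc _ _ _ _).toLinearMap ∘ₗ LinearMap.lTensor (C i ⊗[A] B) f ∘ₗ
        (TensorProduct.assoc _ _ _ _).symm.toLinearMap := by
    ext; simp
  simpa [this] using Module.Flat.lTensor_preserves_injective_linearMap (M := C i ⊗[A] B) f hf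

theorem faithfullyFlat_of_pi (h : ∀ i, Module.FaithfullyFlat (C i) (C i ⊗[A] B)) :
    Module.FaithfullyFlat A B := by
  haveI : Module.Flat A B := flat_of_pi C B fun i => (h i).toFlat
  rw [Module.FaithfullyFlat.iff_flat_and_lTensor_reflects_triviality]
  refine ⟨inferInstance, fun N _ _ hN => subsingleton_of_pi (A := A) C fun i => ?_⟩
  haveI := h i
  haveI : Subsingleton ((C i ⊗[A] B) ⊗[C i] (C i ⊗[A] N)) :=
    ((TensorProduct.AlgebraTensorModule.cancelBaseChange A (C i) (C i) (C i ⊗[A] B) N).toEquiv.trans
      (TensorProduct.assoc A (C i) B N).toEquiv).subsingleton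
  exact Module.FaithfullyFlat.lTensor_reflects_triviality (C i) (C i ⊗[A] B) _

theorem finite_of_pi (h : ∀ i, Module.Finite (C i) (C i ⊗[A] B)) : Module.Finite A B := by
  classical
  choose s hs using fun i => (h i).fg_top
  have hT : ∀ i, ∀ x : C i ⊗[A] B, ∃ S : Finset B, x ∈ Submodule.span (C i) ((fun b => (1 : C i) ⊗ₜ[A] b) '' (S : Set B)) := by
    intro i x
    induction x using TensorProduct.induction_on with
    | zero => exact ⟨∅, zero_mem _⟩
    | tmul c b =>
      refine ⟨{b}, ?_⟩
      rw [show c ⊗ₜ[A] b = c • ((1 : C i) ⊗ₜ[A] b) by rw [TensorProduct.smul_tmul', smul_eq_mul, mul_one]]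
      exact Submodule.smul_mem _ _ (Submodule.subset_span ⟨b, Finset.mem_singleton_self b, rfl⟩)
    | add x y hx hy =>
      obtain ⟨S, hS⟩ := hx
      obtain ⟨T, hT⟩ := hy
      refine ⟨S ∪ T, add_mem (Submodule.span_mono ?_ hS) (Submodule.span_mono ?_ hT)⟩ <;>
        exact Set.image_mono (by simp)
  choose S hS using hT
  cases nonempty_fintype ι
  let T : Finset B := Finset.univ.biUnion fun i => (s i).biUnion (S i)
  let f : (T → A) →ₗ[A] B := (Pi.basisFun A T).constr A fun t => (t : B)
  refine Module.Finite.of_surjective f (surjective_of_pi C f fun i => ?_)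
  have key : Function.Surjective (TensorProduct.AlgebraTensorModule.lTensor (C i) (C i) f) := by
    rw [← LinearMap.range_eq_top, eq_top_iff, ← hs i, Submodule.span_le]
    intro x hx
    refine (Submodule.span_le.mpr ?_) (hS i x)
    rintro _ ⟨b, hb, rfl⟩
    have hbT : b ∈ T := Finset.mem_biUnion.mpr ⟨i, Finset.mem_univ _, Finset.mem_biUnion.mpr ⟨x, hx, hb⟩⟩
    refine ⟨(1 : C i) ⊗ₜ[A] Pi.basisFun A T ⟨b, hbT⟩, ?_⟩
    change (1 : C i) ⊗ₜ[A] f (Pi.basisFun A T ⟨b, hbT⟩) = _
    rw [Module.Basis.constr_basis]
  exact key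

theorem etale_of_pi (h : ∀ i, Algebra.Etale (C i) (C i ⊗[A] B)) : Algebra.Etale A B := by
  classical
  cases nonempty_fintype ι
  haveI := etale_pi_base (R := A) (F := B) C h
  exact Algebra.Etale.of_etale_tensorProduct_of_faithfullyFlat (∀ i, C i)

end Pi

/-! ### Base change along composites -/

section Comp

variable {R S T M N P : Type u} [CommRing R] [CommRing S] [CommRing T] {g : R →+* S} {k : S →+* T}
  {l : R →+* T} [AddCommGroup M] [AddCommGroup N] [AddCommGroup P] [Module R M] [Module S N]
  [Module T P]

theorem isBCAlong_comp (hl : k.comp g = l) {f : M →ₛₗ[g] N} {f' : N →ₛₗ[k] P} {F : M →ₛₗ[l] P}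
    (hF : ∀ m, f' (f m) = F m) (h : IsBCAlong g f) (h' : IsBCAlong k f') : IsBCAlong l F := by
  letI := g.toAlgebra
  letI := k.toAlgebra
  letI := l.toAlgebra
  haveI : IsScalarTower R S T := IsScalarTower.of_algebraMap_eq' hl.symm
  letI : Module R N := Module.compHom N g
  haveI : IsScalarTower R S N := IsScalarTower.of_algebraMap_smul fun _ _ => rfl
  letI : Module S P := Module.compHom P k
  haveI : IsScalarTower S T P := IsScalarTower.of_algebraMap_smul fun _ _ => rfl
  letI : Module R P := Module.compHom P l
  haveI : IsScalarTower R T P := IsScalarTower.of_algebraMap_smul fun _ _ => rfl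
  haveI : IsScalarTower R S P := IsScalarTower.of_algebraMap_smul fun r p => by
    change k (g r) • p = l r • p
    rw [← hl]; rfl
  unfold IsBCAlong at h h' ⊢
  have := h.comp h'
  convert this using 1
  exact LinearMap.ext fun m => (hF m).symm

end Comp

/-! ### The affine open set -/

section Affine

variable {X : RSpace.{u}} (U : Set X.pt)

/-- Ring sections over a subset as global sections of the restricted space. -/
def sectRingEquiv : X.sectRing U ≃+* (X.restrict U).sectRing Set.univ where
  toFun s := ⟨fun q => s.1 q.1, fun q q' h => s.2 q.1 q'.1 h⟩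
  invFun s := ⟨fun q => s.1 ⟨q, trivial⟩, fun q q' h => s.2 ⟨q, trivial⟩ ⟨q', trivial⟩ h⟩
  left_inv _ := rfl
  right_inv _ := rfl
  map_mul' _ _ := rfl
  map_add' _ _ := rfl

/-- Module sections over a subset as global sections of the restricted module. -/
def sectModEquiv (M : OMod X) :
    M.sect U →ₛₗ[(sectRingEquiv U : X.sectRing U →+* (X.restrict U).sectRing Set.univ)]
      (M.restrict U).sect Set.univ where
  toFun s := ⟨fun q => s.1 q.1, fun q q' h => s.2 q.1 q'.1 h⟩
  map_add' _ _ := rfl
  map_smul' _ _ := rfl

theorem isBCAlong_evalMod (hUa : (X.restrict U).IsAffine) {M : OMod X} (hM : M.IsQcoh) (q : U) :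
    IsBCAlong (X.evalRing U q) (M.evalMod U q) := by
  have h1 := hUa.2.2.1 (M.restrict U) (fun a b h => hM a.1 b.1 h) q
  have h0 : IsBCAlong (sectRingEquiv U : X.sectRing U →+* (X.restrict U).sectRing Set.univ)
      (sectModEquiv U M) := by
    rw [isBCAlong_iff]
    letI := (sectRingEquiv U : X.sectRing U →+* (X.restrict U).sectRing Set.univ).toAlgebra
    let inv : (M.restrict U).sect Set.univ → M.sect U := fun s =>
      ⟨fun q => s.1 ⟨q, trivial⟩, fun q q' h => s.2 ⟨q, trivial⟩ ⟨q', trivial⟩ h⟩
    have hsurj : Function.Surjective (fun m : M.sect U =>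
        (1 : (X.restrict U).sectRing Set.univ) ⊗ₜ[X.sectRing U] m) := by
      intro t
      induction t using TensorProduct.induction_on with
      | zero => exact ⟨0, TensorProduct.tmul_zero _ _⟩
      | tmul s m =>
        refine ⟨(sectRingEquiv U).symm s • m, ?_⟩
        change (1 : (X.restrict U).sectRing Set.univ) ⊗ₜ[X.sectRing U] ((sectRingEquiv U).symm s • m) = _
        rw [TensorProduct.tmul_smul, TensorProduct.smul_tmul']
        congr 1
        rw [Algebra.smul_def, mul_one]
        exact (sectRingEquiv U).apply_symm_apply s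
      | add x y hx hy =>
        obtain ⟨a, ha⟩ := hx
        obtain ⟨b, hb⟩ := hy
        refine ⟨a + b, ?_⟩
        simp only [TensorProduct.tmul_add] at ha hb ⊢
        rw [ha, hb]
    refine ⟨fun a b hab => ?_, fun n => ⟨1 ⊗ₜ inv n, ?_⟩⟩
    · obtain ⟨m, rfl⟩ := hsurj a
      obtain ⟨m', rfl⟩ := hsurj b
      simp only [bcMap_tmul, one_smul] at hab
      have : m = m' := congrArg inv hab
      rw [this]
    · rw [bcMap_tmul, one_smul]
      rfl
  exact isBCAlong_comp (g := (sectRingEquiv U : X.sectRing U →+* (X.restrict U).sectRing Set.univ))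
    (k := (X.restrict U).evalRing Set.univ ⟨q, trivial⟩) (f := sectModEquiv U M)
    (f' := (M.restrict U).evalMod Set.univ ⟨q, trivial⟩) (RingHom.ext fun _ => rfl) (fun _ => rfl) h0 h1

theorem isBCAlong_resSect {x : X.pt} (hU : U ⊆ X.up x) (hUa : (X.restrict U).IsAffine)
    (hff : Module.FaithfullyFlat (X.sectRing U) ((q : U) → X.ring q.1)) {M : OMod X}
    (hM : M.IsQcoh) : IsBCAlong (X.resSect x U hU) (M.resSect x U hU) := by
  letI : ∀ q : U, Algebra (X.sectRing U) (X.ring q.1) := fun q => (X.evalRing U q).toAlgebra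
  haveI : Module.FaithfullyFlat (X.sectRing U) ((q : U) → X.ring q.1) := hff
  rw [isBCAlong_iff]
  letI := (X.resSect x U hU).toAlgebra
  letI : Module (X.ring x) (M.sect U) := Module.compHom _ (X.resSect x U hU)
  haveI : IsScalarTower (X.ring x) (X.sectRing U) (M.sect U) :=
    IsScalarTower.of_algebraMap_smul fun _ _ => rfl
  let φ : X.sectRing U ⊗[X.ring x] M.carrier x →ₗ[X.sectRing U] M.sect U :=
    { toFun := bcMap (X.resSect x U hU) (M.resSect x U hU)
      map_add' := map_add _
      map_smul' := fun a t => by
        induction t using TensorProduct.induction_on with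
        | zero => simp
        | tmul s m =>
          rw [TensorProduct.smul_tmul']
          change (a * s) • M.resSect x U hU m = a • (s • M.resSect x U hU m)
          rw [mul_smul]
        | add y z hy hz => simp only [smul_add, map_add, RingHom.id_apply] at *; rw [hy, hz] }
  suffices hb : ∀ q : U, Function.Bijective (LinearMap.lTensor (X.ring q.1) φ) from
    ⟨injective_of_pi (fun q : U => X.ring q.1) φ fun q => (hb q).1,
      surjective_of_pi (fun q : U => X.ring q.1) φ fun q => (hb q).2⟩
  intro q
  letI : Module (X.sectRing U) (M.carrier q.1) := Module.compHom _ (X.evalRing U q)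
  haveI : IsScalarTower (X.sectRing U) (X.ring q.1) (M.carrier q.1) :=
    IsScalarTower.of_algebraMap_smul fun _ _ => rfl
  letI := (X.res (hU q.2)).toAlgebra
  letI : Module (X.ring x) (M.carrier q.1) := Module.compHom _ (X.res (hU q.2))
  haveI : IsScalarTower (X.ring x) (X.ring q.1) (M.carrier q.1) :=
    IsScalarTower.of_algebraMap_smul fun _ _ => rfl
  haveI : IsScalarTower (X.ring x) (X.sectRing U) (X.ring q.1) :=
    IsScalarTower.of_algebraMap_eq fun _ => rfl
  haveI : IsScalarTower (X.ring x) (X.sectRing U) (M.carrier q.1) :=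
    IsScalarTower.of_algebraMap_smul fun _ _ => rfl
  have hev := isBCAlong_evalMod U hUa hM q
  unfold IsBCAlong at hev
  let g : M.sect U →ₗ[X.sectRing U] M.carrier q.1 :=
    { toFun := M.evalMod U q, map_add' := map_add _, map_smul' := fun a m => rfl }
  have hg : IsBaseChange (X.ring q.1) g := hev
  have hres := hM x q.1 (hU q.2)
  unfold IsBCAlong at hres
  have hcomp : IsBaseChange (X.ring q.1) (g.comp φ) := by
    refine (TensorProduct.isBaseChange (X.ring x) (M.carrier x) (X.sectRing U)).of_comp ?_
    convert hres using 1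
    refine LinearMap.ext fun m => ?_
    change (((1 : X.sectRing U) • M.resSect x U hU m : M.sect U)).1 q = _
    rw [one_smul]
    rfl
  have key : ∀ t, LinearMap.lTensor (X.ring q.1) φ t = hg.equiv.symm (hcomp.equiv t) := by
    intro t
    rw [LinearEquiv.eq_symm_apply]
    induction t using TensorProduct.induction_on with
    | zero => simp
    | tmul s m => rw [LinearMap.lTensor_tmul, IsBaseChange.equiv_tmul, IsBaseChange.equiv_tmul]; rfl
    | add y z hy hz => simp only [map_add, hy, hz]
  rw [show ⇑(LinearMap.lTensor (X.ring q.1) φ) = hg.equiv.symm ∘ hcomp.equiv from funext key]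
  exact hg.equiv.symm.bijective.comp hcomp.equiv.bijective

/-- Sections of an algebra base change to its values. -/
theorem exists_sectAlgEquiv (hUa : (X.restrict U).IsAffine) {A : Alg X} (hA : A.IsQcoh) (q : U) :
    letI := (X.evalRing U q).toAlgebra
    letI := (A.sectMap U).toAlgebra
    Nonempty (X.ring q.1 ⊗[X.sectRing U] A.total.sectRing U ≃ₐ[X.ring q.1] A.carrier q.1) := by
  letI := (X.evalRing U q).toAlgebra
  letI := (A.sectMap U).toAlgebra
  letI : Algebra (X.sectRing U) (A.carrier q.1) :=
    ((algebraMap (X.ring q.1) (A.carrier q.1)).comp (X.evalRing U q)).toAlgebra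
  haveI : IsScalarTower (X.sectRing U) (X.ring q.1) (A.carrier q.1) :=
    IsScalarTower.of_algebraMap_eq' rfl
  let ev : A.total.sectRing U →ₐ[X.sectRing U] A.carrier q.1 :=
    { A.total.evalRing U q with commutes' := fun _ => rfl }
  let Φ : X.ring q.1 ⊗[X.sectRing U] A.total.sectRing U →ₐ[X.ring q.1] A.carrier q.1 :=
    Algebra.TensorProduct.lift (Algebra.ofId (X.ring q.1) (A.carrier q.1)) ev fun _ _ => mul_comm _ _
  have h1 := isBCAlong_evalMod U hUa (M := A.toMod) hA q
  rw [isBCAlong_iff] at h1
  let e : A.total.sectRing U ≃ₗ[X.sectRing U] A.toMod.sect U :=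
    { toFun := fun s => ⟨s.1, s.2⟩
      invFun := fun s => ⟨s.1, s.2⟩
      map_add' := fun _ _ => rfl
      map_smul' := fun a s => Subtype.ext (funext fun p => (Algebra.smul_def (A := A.carrier p.1) (a.1 p) (s.1 p)).symm)
      left_inv := fun _ => rfl
      right_inv := fun _ => rfl }
  have key : ∀ t, Φ t = bcMap (X.evalRing U q) (A.toMod.evalMod U q)
      (LinearMap.lTensor (X.ring q.1) e.toLinearMap t) := by
    intro t
    induction t using TensorProduct.induction_on with
    | zero => simp
    | tmul s b =>
      rw [Algebra.TensorProduct.lift_tmul, LinearMap.lTensor_tmul, bcMap_tmul]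
      exact (Algebra.smul_def (A := A.carrier q.1) s (b.1 q)).symm
    | add y z hy hz => simp only [map_add, hy, hz]
  refine ⟨AlgEquiv.ofBijective Φ ?_⟩
  rw [show ⇑Φ = bcMap (X.evalRing U q) (A.toMod.evalMod U q) ∘
      (LinearMap.lTensor (X.ring q.1) e.toLinearMap) from funext key]
  exact h1.comp (e.lTensor (X.ring q.1)).bijective

end Affine

end Groth.Agent.SchFinLib
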