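import Groth.Agent.SchFinLib.Alg

set_option backward.isDefEq.respectTransparency false
set_option backward.defeqAttrib.useBackward true

universe u

open TensorProduct CategoryTheory CategoryTheory.Limits

namespace Groth.Agent.SchFinLib

open SchFin

variable {X : RSpace.{u}}

theorem idem_unique {R : Type*} [CommRing R] {a b : R} (ha : IsIdempotentElem a)
    (hb : IsIdempotentElem b) (h : Ideal.span {a} = Ideal.span {b}) : a = b := by
  obtain ⟨c, hc⟩ := Ideal.mem_span_singleton.mp (h ▸ Ideal.mem_span_singleton_self a)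
  obtain ⟨d, hd⟩ := Ideal.mem_span_singleton.mp (h.symm ▸ Ideal.mem_span_singleton_self b)
  calc a = b * c := hc
    _ = b * (b * c) := by rw [← mul_assoc, hb.eq]
    _ = b * a := by rw [← hc]
    _ = a * d * a := by rw [← hd]
    _ = a * d := by rw [mul_right_comm, ha.eq]
    _ = b := hd.symm

theorem isEtCover_str (hX : X.IsSchematic) : (Alg.str X).IsEtCover :=
  ⟨isQcoh_str hX, fun p => ⟨Module.Finite.self (X.ring p),
    (inferInstance : Algebra.Etale (X.ring p) (X.ring p))⟩⟩

theorem isEtCover_prodAlg {A B : Alg X} (hA : A.IsEtCover) (hB : B.IsEtCover) :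
    (prodAlg A B).IsEtCover := by
  refine ⟨isQcoh_prodAlg A B hA.1 hB.1, fun p => ?_⟩
  haveI := (hA.2 p).1
  haveI := (hA.2 p).2
  haveI := (hB.2 p).1
  haveI := (hB.2 p).2
  exact ⟨(inferInstance : Module.Finite (X.ring p) (A.carrier p × B.carrier p)),
    (etale_prod : Algebra.Etale (X.ring p) (A.carrier p × B.carrier p))⟩

theorem isEtCover_tensorAlg {A B : Alg X} (hA : A.IsEtCover) (hB : B.IsEtCover) :
    (tensorAlg A B).IsEtCover := by
  refine ⟨isQcoh_tensorAlg A B hA.1 hB.1, fun p => ?_⟩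
  haveI := (hA.2 p).1
  haveI := (hA.2 p).2
  haveI := (hB.2 p).1
  haveI := (hB.2 p).2
  exact ⟨(inferInstance : Module.Finite (X.ring p) (A.carrier p ⊗[X.ring p] B.carrier p)),
    (Algebra.Etale.comp (X.ring p) (A.carrier p) (A.carrier p ⊗[X.ring p] B.carrier p) :
      Algebra.Etale (X.ring p) (A.carrier p ⊗[X.ring p] B.carrier p))⟩

/-- A compatible family of idempotents. -/
structure Idem (A : Alg X) where
  /-- the idempotent -/
  e : ∀ p, A.carrier p
  idem : ∀ p, IsIdempotentElem (e p)
  res : ∀ {p q : X.pt} (h : p ≤ q), A.res h (e p) = e q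

namespace Idem

variable {A : Alg X} (E : Idem A)

/-- the complementary family -/
def compl : Idem A where
  e p := 1 - E.e p
  idem p := (E.idem p).one_sub
  res h := by rw [map_sub, map_one, E.res h]

/-- image under a morphism -/
def map {B : Alg X} (f : A ⟶ B) : Idem B where
  e p := f.app p (E.e p)
  idem p := (E.idem p).map (f.app p)
  res h := by rw [f.compat, E.res h]

theorem le_comap {p q : X.pt} (h : p ≤ q) :
    Ideal.span {E.e p} ≤ (Ideal.span {E.e q}).comap (A.res h) := by
  rw [Ideal.span_singleton_le_iff_mem, Ideal.mem_comap, E.res h]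
  exact Ideal.mem_span_singleton_self _

/-- the quotient by a family of idempotents -/
def quot : Alg X := quotAlg A (fun p => Ideal.span {E.e p}) E.le_comap

/-- the projection -/
def proj : A ⟶ E.quot := quotMk A _ E.le_comap

theorem proj_surjective (p : X.pt) : Function.Surjective (E.proj.app p) :=
  quotMk_surjective A _ E.le_comap p

theorem proj_eq_zero_iff (p : X.pt) (a : A.carrier p) :
    E.proj.app p a = 0 ↔ a ∈ Ideal.span {E.e p} := Ideal.Quotient.eq_zero_iff_mem

/-- morphisms killing the idempotents factor -/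
def lift {B : Alg X} (f : A ⟶ B) (hf : ∀ p, f.app p (E.e p) = 0) : E.quot ⟶ B :=
  quotLift A _ E.le_comap f fun p => (Ideal.span_singleton_le_iff_mem _).mpr (hf p)

theorem proj_lift {B : Alg X} (f : A ⟶ B) (hf : ∀ p, f.app p (E.e p) = 0) :
    E.proj ≫ E.lift f hf = f :=
  quotMk_quotLift A _ E.le_comap f _

theorem isEtCover_quot (hA : A.IsEtCover) : E.quot.IsEtCover := by
  refine ⟨isQcoh_quotAlg A _ E.le_comap hA.1 fun {p q} h => ?_, fun p => ?_⟩
  · rw [Ideal.span_singleton_le_iff_mem, ← E.res h]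
    exact Ideal.mem_map_of_mem _ (Ideal.mem_span_singleton_self _)
  · haveI := (hA.2 p).1
    haveI := (hA.2 p).2
    exact ⟨(Module.Finite.of_surjective (Ideal.Quotient.mkₐ (X.ring p) (Ideal.span {E.e p})).toLinearMap
        Ideal.Quotient.mk_surjective :
          Module.Finite (X.ring p) (A.carrier p ⧸ Ideal.span {E.e p})),
      (etale_quotient_idempotent (E.idem p) :
        Algebra.Etale (X.ring p) (A.carrier p ⧸ Ideal.span {E.e p}))⟩

end Idem

theorem hom_app_comp {A B C : Alg X} (f : A ⟶ B) (g : B ⟶ C) (p : X.pt) (a : A.carrier p) :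
    (f ≫ g).app p a = g.app p (f.app p a) := rfl

section Ker

variable {A B : Alg X} (f : A ⟶ B)

theorem ker_le_map_ker (hX : X.IsSchematic) (hA : A.IsQcoh) (hB : B.IsQcoh) {p q : X.pt}
    (h : p ≤ q) :
    RingHom.ker (f.app q).toRingHom ≤ (RingHom.ker (f.app p).toRingHom).map (A.res h) := by
  letI := (X.res h).toAlgebra
  haveI : Module.Flat (X.ring p) (X.ring q) := flat_res hX h
  intro y hy
  obtain ⟨t, rfl⟩ := (bijective_bcA hA h).2 y
  have hcomm : ∀ t, bcA B h (LinearMap.lTensor (X.ring q) (f.app p).toLinearMap t) =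
      f.app q (bcA A h t) := by
    intro t
    induction t using TensorProduct.induction_on with
    | zero => simp
    | tmul s a =>
      rw [LinearMap.lTensor_tmul, bcA_tmul, bcA_tmul, map_mul, AlgHom.commutes, ← f.compat]
      rfl
    | add x y hx hy => simp only [map_add, hx, hy]
  have h0 : LinearMap.lTensor (X.ring q) (f.app p).toLinearMap t = 0 := by
    apply (bijective_bcA hB h).1
    rw [hcomm, map_zero]
    exact hy
  obtain ⟨s, rfl⟩ := ((Module.Flat.lTensor_exact (X.ring q)
    (LinearMap.exact_subtype_ker_map (f.app p).toLinearMap)) t).mp h0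
  clear hy h0
  induction s using TensorProduct.induction_on with
  | zero => simp
  | tmul s i =>
    rw [LinearMap.lTensor_tmul, bcA_tmul]
    exact Ideal.mul_mem_left _ _ (Ideal.mem_map_of_mem _ i.2)
  | add x y hx hy =>
    rw [map_add, map_add]
    exact Ideal.add_mem _ hx hy

theorem exists_kerIdem (hX : X.IsSchematic) (hA : A.IsEtCover) (hB : B.IsEtCover) :
    ∃ E : Idem A, ∀ p, RingHom.ker (f.app p).toRingHom = Ideal.span {E.e p} := by
  have h : ∀ p, ∃ e : A.carrier p, IsIdempotentElem e ∧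
      RingHom.ker (f.app p).toRingHom = Ideal.span {e} := fun p => by
    haveI := (hA.2 p).1
    haveI := (hA.2 p).2
    haveI := (hB.2 p).1
    haveI := (hB.2 p).2
    exact exists_idempotent_ker_of_etale (f.app p)
  choose e he hk using h
  refine ⟨⟨e, he, fun {p q} h => idem_unique ((he p).map _) (he q) ?_⟩, hk⟩
  apply le_antisymm
  · rw [Ideal.span_singleton_le_iff_mem, ← hk q, RingHom.mem_ker]
    change f.app q (A.res h (e p)) = 0
    rw [← f.compat, show f.app p (e p) = 0 from RingHom.mem_ker.mp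
      ((hk p).ge (Ideal.mem_span_singleton_self _)), map_zero]
  · rw [← hk q]
    refine (ker_le_map_ker f hX hA.1 hB.1 h).trans ?_
    rw [hk p, Ideal.map_span, Set.image_singleton]

end Ker

/-- inverse of a pointwise bijective morphism -/
noncomputable def invOfBijective {A B : Alg X} (f : A ⟶ B) (hf : ∀ p, Function.Bijective (f.app p)) :
    B ⟶ A where
  app p := (AlgEquiv.ofBijective (f.app p) (hf p)).symm.toAlgHom
  compat {p q} h b := by
    apply (hf q).1
    change f.app q (A.res h ((AlgEquiv.ofBijective (f.app p) (hf p)).symm b)) =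
      f.app q ((AlgEquiv.ofBijective (f.app q) (hf q)).symm (B.res h b))
    rw [← f.compat]
    exact (congrArg (B.res h) ((AlgEquiv.ofBijective (f.app p) (hf p)).apply_symm_apply b)).trans
      ((AlgEquiv.ofBijective (f.app q) (hf q)).apply_symm_apply _).symm

theorem invOfBijective_comp {A B : Alg X} (f : A ⟶ B) (hf : ∀ p, Function.Bijective (f.app p)) :
    invOfBijective f hf ≫ f = 𝟙 B :=
  Alg.hom_ext _ _ fun p => AlgHom.ext fun b =>
    (AlgEquiv.ofBijective (f.app p) (hf p)).apply_symm_apply b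

theorem comp_invOfBijective {A B : Alg X} (f : A ⟶ B) (hf : ∀ p, Function.Bijective (f.app p)) :
    f ≫ invOfBijective f hf = 𝟙 A :=
  Alg.hom_ext _ _ fun p => AlgHom.ext fun a =>
    (AlgEquiv.ofBijective (f.app p) (hf p)).symm_apply_apply a

/-! ### The category of étale covers -/

theorem fet_ext {A B : FEt X} {f g : A ⟶ B}
    (h : ∀ p a, f.hom.app p a = g.hom.app p a) : f = g :=
  ObjectProperty.hom_ext _ (Alg.hom_ext _ _ fun p => AlgHom.ext (h p))

theorem fet_app_comp {A B C : FEt X} (f : A ⟶ B) (g : B ⟶ C) (p : X.pt) (a : A.obj.carrier p) :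
    (f ≫ g).hom.app p a = g.hom.app p (f.hom.app p a) := rfl

/-- The structure algebra as an étale cover. -/
def strObj (hX : X.IsSchematic) : FEt X := ⟨Alg.str X, isEtCover_str hX⟩

/-- The morphism out of the structure algebra. -/
def strDesc (hX : X.IsSchematic) (A : FEt X) : strObj hX ⟶ A :=
  ObjectProperty.homMk
    { app := fun p => Algebra.ofId (X.ring p) (A.obj.carrier p)
      compat := fun h b => A.obj.res_algebraMap h b }

theorem hasInitial (hX : X.IsSchematic) : HasInitial (FEt X) :=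
  (IsInitial.ofUniqueHom (strDesc hX) (fun A m => fet_ext fun p (a : X.ring p) =>
    (m.hom.app p).commutes a)).hasInitial

/-- The zero algebra. -/
def oneIdem : Idem (Alg.str X) where
  e p := (1 : X.ring p)
  idem p := IsIdempotentElem.one (M := X.ring p)
  res h := map_one (X.res h)

/-- The zero algebra as an étale cover. -/
def zeroObj (hX : X.IsSchematic) : FEt X :=
  ⟨(oneIdem (X := X)).quot, (oneIdem (X := X)).isEtCover_quot (isEtCover_str hX)⟩

instance subsingleton_zeroObj (hX : X.IsSchematic) (p : X.pt) :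
    Subsingleton ((zeroObj hX).obj.carrier p) := by
  change Subsingleton (X.ring p ⧸ Ideal.span {(1 : X.ring p)})
  rw [Ideal.Quotient.subsingleton_iff]
  exact Ideal.span_singleton_one

/-- The morphism to the zero algebra. -/
noncomputable def zeroLift (hX : X.IsSchematic) (A : FEt X) : A ⟶ zeroObj hX :=
  haveI := subsingleton_zeroObj hX
  ObjectProperty.homMk
    { app := fun p =>
        { toFun := fun _ => 0
          map_one' := Subsingleton.elim _ _
          map_mul' := fun _ _ => Subsingleton.elim _ _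
          map_zero' := rfl
          map_add' := fun _ _ => Subsingleton.elim _ _
          commutes' := fun _ => Subsingleton.elim _ _ }
      compat := fun {p q} h b => (subsingleton_zeroObj hX q).elim _ _ }

theorem hasTerminal (hX : X.IsSchematic) : HasTerminal (FEt X) :=
  (IsTerminal.ofUniqueHom (zeroLift hX) (fun A m => fet_ext fun p a =>
    (subsingleton_zeroObj hX p).elim _ _)).hasTerminal

theorem hasBinaryProducts : HasBinaryProducts (FEt X) := by
  haveI : ∀ {A B : FEt X}, HasLimit (pair A B) := fun {A B} => by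
    let P : FEt X := ⟨prodAlg A.obj B.obj, isEtCover_prodAlg A.property B.property⟩
    let π₁ : P ⟶ A := ObjectProperty.homMk (prodFst A.obj B.obj)
    let π₂ : P ⟶ B := ObjectProperty.homMk (prodSnd A.obj B.obj)
    exact ⟨⟨BinaryFan.mk π₁ π₂, BinaryFan.IsLimit.mk _
      (fun {T} f g => ObjectProperty.homMk (prodLift A.obj B.obj f.hom g.hom))
      (fun f g => fet_ext fun p a => rfl) (fun f g => fet_ext fun p a => rfl)
      (fun f g m h₁ h₂ => fet_ext fun p a => Prod.ext
        (congrArg (fun φ => φ.hom.app p a) h₁) (congrArg (fun φ => φ.hom.app p a) h₂))⟩⟩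
  exact hasBinaryProducts_of_hasLimit_pair _

/-- Pushouts exist and are pushouts of rings at each point. -/
theorem exists_pushout (hX : X.IsSchematic) {C B B' : FEt X} (f : C ⟶ B) (g : C ⟶ B') :
    ∃ c : PushoutCocone f g, Nonempty (IsColimit c) ∧
      ∀ (p : X.pt) (T : Type u) [CommRing T] (u : B.obj.carrier p →+* T) (v : B'.obj.carrier p →+* T),
        (∀ z, u (f.hom.app p z) = v (g.hom.app p z)) →
          ∃! w : c.pt.obj.carrier p →+* T,
            w.comp (c.inl.hom.app p).toRingHom = u ∧ w.comp (c.inr.hom.app p).toRingHom = v := by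
  obtain ⟨E, hE⟩ := exists_kerIdem (tensorDesc C.obj C.obj (𝟙 C.obj) (𝟙 C.obj)) hX
    (isEtCover_tensorAlg C.property C.property) C.property
  let φ : tensorAlg C.obj C.obj ⟶ tensorAlg B.obj B'.obj :=
    tensorDesc _ _ (f.hom ≫ tensorInl B.obj B'.obj) (g.hom ≫ tensorInr B.obj B'.obj)
  let E' := E.map φ
  let P : FEt X := ⟨E'.quot, E'.isEtCover_quot (isEtCover_tensorAlg B.property B'.property)⟩
  let i₁ : B ⟶ P := ObjectProperty.homMk (tensorInl B.obj B'.obj ≫ E'.proj)
  let i₂ : B' ⟶ P := ObjectProperty.homMk (tensorInr B.obj B'.obj ≫ E'.proj)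
  have w : f ≫ i₁ = g ≫ i₂ := fet_ext fun p c => by
    change E'.proj.app p (f.hom.app p c ⊗ₜ 1) = E'.proj.app p (1 ⊗ₜ g.hom.app p c)
    rw [← sub_eq_zero, ← map_sub]
    refine (E'.proj_eq_zero_iff p _).mpr ?_
    have h1 : (c ⊗ₜ[X.ring p] (1 : C.obj.carrier p) - (1 : C.obj.carrier p) ⊗ₜ[X.ring p] c) ∈
        Ideal.span {E.e p} := by
      rw [← hE p, RingHom.mem_ker]
      change Algebra.TensorProduct.lift (AlgHom.id (X.ring p) (C.obj.carrier p))
        (AlgHom.id (X.ring p) (C.obj.carrier p)) (fun _ _ => Commute.all _ _) _ = 0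
      rw [map_sub, Algebra.TensorProduct.lift_tmul, Algebra.TensorProduct.lift_tmul]
      simp
    obtain ⟨r, hr⟩ := Ideal.mem_span_singleton.mp h1
    refine Ideal.mem_span_singleton.mpr ⟨φ.app p r, ?_⟩
    refine Eq.trans ?_ (map_mul (φ.app p) _ _)
    rw [← hr, map_sub]
    change _ = (f.hom.app p c ⊗ₜ[X.ring p] (1 : B'.obj.carrier p)) * ((1 : B.obj.carrier p) ⊗ₜ[X.ring p] g.hom.app p 1) -
      (f.hom.app p 1 ⊗ₜ[X.ring p] (1 : B'.obj.carrier p)) * ((1 : B.obj.carrier p) ⊗ₜ[X.ring p] g.hom.app p c)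
    simp [Algebra.TensorProduct.tmul_mul_tmul]
  refine ⟨PushoutCocone.mk i₁ i₂ w, ?_, fun p T _ u v huv => ?_⟩
  rotate_left
  · letI : Algebra (X.ring p) T := (u.comp (algebraMap (X.ring p) (B.obj.carrier p))).toAlgebra
    let u' : B.obj.carrier p →ₐ[X.ring p] T := ⟨u, fun _ => rfl⟩
    let v' : B'.obj.carrier p →ₐ[X.ring p] T := ⟨v, fun r => by
      change v (algebraMap _ _ r) = u (algebraMap _ _ r)
      rw [← (g.hom.app p).commutes r, ← (f.hom.app p).commutes r, huv]⟩
    let Λ : B.obj.carrier p ⊗[X.ring p] B'.obj.carrier p →+* T :=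
      (Algebra.TensorProduct.lift u' v' (fun _ _ => Commute.all _ _)).toRingHom
    have hΛ : ∀ x y, Λ (x ⊗ₜ[X.ring p] y) = u x * v y := fun x y => rfl
    have hcomp : ∀ t, Λ (φ.app p t) =
        u (f.hom.app p ((tensorDesc C.obj C.obj (𝟙 C.obj) (𝟙 C.obj)).app p t)) := by
      intro t
      induction t using TensorProduct.induction_on with
      | zero => exact ((congrArg Λ (map_zero (φ.app p))).trans (map_zero Λ)).trans (((congrArg u ((congrArg (f.hom.app p) (map_zero _)).trans (map_zero _))).trans (map_zero u)).symm)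
      | tmul a b =>
        change Λ ((f.hom.app p a ⊗ₜ[X.ring p] (1 : B'.obj.carrier p)) *
            ((1 : B.obj.carrier p) ⊗ₜ[X.ring p] g.hom.app p b)) = u (f.hom.app p (a * b))
        rw [Algebra.TensorProduct.tmul_mul_tmul, mul_one, one_mul, hΛ, ← huv, ← map_mul, ← map_mul]
      | add x y hx hy =>
        exact ((congrArg Λ (map_add (φ.app p) x y)).trans (map_add Λ _ _)).trans
          ((congrArg₂ (· + ·) hx hy).trans (((congrArg u ((congrArg (f.hom.app p) (map_add _ _ _)).trans
            (map_add _ _ _))).trans (map_add u _ _)).symm))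
    have hkill : Ideal.span {E'.e p} ≤ RingHom.ker Λ := by
      rw [Ideal.span_singleton_le_iff_mem, RingHom.mem_ker]
      refine (hcomp (E.e p)).trans ?_
      rw [show (tensorDesc C.obj C.obj (𝟙 C.obj) (𝟙 C.obj)).app p (E.e p) = 0 from
        RingHom.mem_ker.mp ((hE p).ge (Ideal.mem_span_singleton_self _)), map_zero, map_zero]
    refine ⟨Ideal.Quotient.lift (Ideal.span {E'.e p}) Λ (fun x hx => hkill hx), ⟨?_, ?_⟩, ?_⟩
    · ext x
      change Λ (x ⊗ₜ[X.ring p] (1 : B'.obj.carrier p)) = u x
      rw [hΛ, map_one, mul_one]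
    · ext y
      change Λ ((1 : B.obj.carrier p) ⊗ₜ[X.ring p] y) = v y
      rw [hΛ, map_one, one_mul]
    · rintro w' ⟨h₁, h₂⟩
      refine Ideal.Quotient.ringHom_ext (RingHom.ext fun t => ?_)
      change w' (E'.proj.app p t) = Λ t
      induction t using TensorProduct.induction_on with
      | zero => exact ((congrArg w' (map_zero _)).trans (map_zero w')).trans (map_zero Λ).symm
      | tmul a b =>
        have e1 : w' (E'.proj.app p (a ⊗ₜ 1)) = u a := RingHom.congr_fun h₁ a
        have e2 : w' (E'.proj.app p (1 ⊗ₜ b)) = v b := RingHom.congr_fun h₂ b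
        have hsplit : (a ⊗ₜ[X.ring p] b : (tensorAlg B.obj B'.obj).carrier p) =
            (a ⊗ₜ[X.ring p] (1 : B'.obj.carrier p)) * ((1 : B.obj.carrier p) ⊗ₜ[X.ring p] b) :=
          ((Algebra.TensorProduct.tmul_mul_tmul _ _ _ _).trans (by rw [mul_one, one_mul])).symm
        refine Eq.trans ?_ (hΛ a b).symm
        rw [hsplit, map_mul, map_mul, e1, e2]
      | add x y hx hy =>
        exact ((congrArg w' (map_add _ _ _)).trans (map_add w' _ _)).trans
          ((congrArg₂ (· + ·) hx hy).trans (map_add Λ _ _).symm)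
  refine ⟨PushoutCocone.isColimitAux' _ fun s => ?_⟩
  have hkill : ∀ p, (tensorDesc B.obj B'.obj s.inl.hom s.inr.hom).app p (E'.e p) = 0 := by
    intro p
    have hcomp : ∀ t, (tensorDesc B.obj B'.obj s.inl.hom s.inr.hom).app p (φ.app p t) =
        (f ≫ s.inl).hom.app p
          ((tensorDesc C.obj C.obj (𝟙 C.obj) (𝟙 C.obj)).app p t) := by
      intro t
      induction t using TensorProduct.induction_on with
      | zero => exact ((congrArg _ (map_zero _)).trans (map_zero _)).trans ((congrArg _ (map_zero _)).trans (map_zero _)).symm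
      | tmul a b =>
        have hb : s.inl.hom.app p (f.hom.app p b) = s.inr.hom.app p (g.hom.app p b) :=
          congrArg (fun ψ => ψ.hom.app p b) s.condition
        change Algebra.TensorProduct.lift (s.inl.hom.app p) (s.inr.hom.app p) (fun _ _ => Commute.all _ _)
            ((f.hom.app p a ⊗ₜ (1 : B'.obj.carrier p)) * ((1 : B.obj.carrier p) ⊗ₜ g.hom.app p b)) =
          s.inl.hom.app p (f.hom.app p (a * b))
        rw [Algebra.TensorProduct.tmul_mul_tmul, mul_one, one_mul,
          Algebra.TensorProduct.lift_tmul, map_mul, map_mul, hb]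
      | add x y hx hy =>
        exact ((congrArg _ (map_add _ _ _)).trans (map_add _ _ _)).trans
          ((congrArg₂ (· + ·) hx hy).trans ((congrArg _ (map_add _ _ _)).trans (map_add _ _ _)).symm)
    refine (hcomp (E.e p)).trans ?_
    rw [show (tensorDesc C.obj C.obj (𝟙 C.obj) (𝟙 C.obj)).app p (E.e p) = 0 from
      RingHom.mem_ker.mp ((hE p).ge (Ideal.mem_span_singleton_self _)), map_zero]
  refine ⟨ObjectProperty.homMk (E'.lift _ hkill), fet_ext fun p b => ?_, fet_ext fun p b => ?_,
    fun {m} h₁ h₂ => fet_ext fun p z => ?_⟩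
  · exact (Algebra.TensorProduct.lift_tmul (s.inl.hom.app p) (s.inr.hom.app p) (fun _ _ => Commute.all _ _) b 1).trans (by rw [map_one, mul_one])
  · exact (Algebra.TensorProduct.lift_tmul (s.inl.hom.app p) (s.inr.hom.app p) (fun _ _ => Commute.all _ _) 1 b).trans (by rw [map_one, one_mul])
  · obtain ⟨t, rfl⟩ := E'.proj_surjective p z
    induction t using TensorProduct.induction_on with
    | zero => exact ((congrArg _ (map_zero _)).trans (map_zero _)).trans ((congrArg _ (map_zero _)).trans (map_zero _)).symm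
    | tmul a b =>
      have e1 : m.hom.app p (E'.proj.app p (a ⊗ₜ 1)) = s.inl.hom.app p a :=
        congrArg (fun ψ => ψ.hom.app p a) h₁
      have e2 : m.hom.app p (E'.proj.app p (1 ⊗ₜ b)) = s.inr.hom.app p b :=
        congrArg (fun ψ => ψ.hom.app p b) h₂
      have hsplit : (a ⊗ₜ[X.ring p] b : (tensorAlg B.obj B'.obj).carrier p) =
          (a ⊗ₜ[X.ring p] (1 : B'.obj.carrier p)) * ((1 : B.obj.carrier p) ⊗ₜ[X.ring p] b) :=
        ((Algebra.TensorProduct.tmul_mul_tmul _ _ _ _).trans (by rw [mul_one, one_mul])).symm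
      refine Eq.trans ?_ (Algebra.TensorProduct.lift_tmul (s.inl.hom.app p) (s.inr.hom.app p) (fun _ _ => Commute.all _ _) a b).symm
      rw [hsplit, map_mul, map_mul, e1, e2]
    | add x y hx hy =>
      exact ((congrArg _ (map_add _ _ _)).trans (map_add _ _ _)).trans
        ((congrArg₂ (· + ·) hx hy).trans ((congrArg _ (map_add _ _ _)).trans (map_add _ _ _)).symm)

theorem hasColimit_span (hX : X.IsSchematic) {C B B' : FEt X} (f : C ⟶ B) (g : C ⟶ B') :
    HasColimit (span f g) :=
  let ⟨c, ⟨hc⟩, _⟩ := exists_pushout hX f g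
  ⟨⟨c, hc⟩⟩

theorem hasPushouts (hX : X.IsSchematic) : HasPushouts (FEt X) := by
  haveI : ∀ {C B B' : FEt X} {f : C ⟶ B} {g : C ⟶ B'}, HasColimit (span f g) := fun {_ _ _ f g} => hasColimit_span hX f g
  exact hasPushouts_of_hasColimit_span _

theorem exists_factor (hX : X.IsSchematic) {A B : FEt X} (f : A ⟶ B) :
    ∃ (Q : FEt X) (g : A ⟶ Q) (h : Q ⟶ B), g ≫ h = f ∧
      (∀ p : X.pt, Function.Surjective (g.hom.app p)) ∧
        ∀ p : X.pt, Function.Injective (h.hom.app p) := by
  obtain ⟨E, hE⟩ := exists_kerIdem f.hom hX A.property B.property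
  have hkill : ∀ p, f.hom.app p (E.e p) = 0 := fun p =>
    RingHom.mem_ker.mp ((hE p).ge (Ideal.mem_span_singleton_self _))
  refine ⟨⟨E.quot, E.isEtCover_quot A.property⟩, ObjectProperty.homMk E.proj,
    ObjectProperty.homMk (E.lift f.hom hkill), ObjectProperty.hom_ext _ (E.proj_lift f.hom hkill),
    E.proj_surjective, fun p => ?_⟩
  refine (injective_iff_map_eq_zero ((E.lift f.hom hkill).app p)).mpr fun z hz => ?_
  obtain ⟨a, rfl⟩ := E.proj_surjective p z
  rw [E.proj_eq_zero_iff, ← hE p, RingHom.mem_ker]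
  exact hz

theorem exists_isLimit_of_surjective (hX : X.IsSchematic) {A B : FEt X} (f : A ⟶ B)
    (hf : ∀ p : X.pt, Function.Surjective (f.hom.app p)) :
    ∃ (D : FEt X) (π : A ⟶ D), Nonempty (IsLimit (BinaryFan.mk f π)) := by
  obtain ⟨E, hE⟩ := exists_kerIdem f.hom hX A.property B.property
  let D : FEt X := ⟨E.compl.quot, E.compl.isEtCover_quot A.property⟩
  let π : A ⟶ D := ObjectProperty.homMk E.compl.proj
  let u := prodLift B.obj D.obj f.hom π.hom
  have hker : ∀ p a, f.hom.app p a = 0 ↔ a ∈ Ideal.span {E.e p} := fun p a => by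
    rw [← hE p]
    rfl
  have hu : ∀ p, Function.Bijective (u.app p) := by
    intro p
    refine ⟨(injective_iff_map_eq_zero _).mpr fun a ha => ?_, ?_⟩
    · obtain ⟨x, hx⟩ := Ideal.mem_span_singleton.mp ((hker p a).mp (congrArg Prod.fst ha))
      obtain ⟨y, hy⟩ := Ideal.mem_span_singleton.mp
        ((E.compl.proj_eq_zero_iff p a).mp (congrArg Prod.snd ha))
      calc a = E.e p * a := by rw [hx, ← mul_assoc, (E.idem p).eq]
        _ = E.e p * ((1 - E.e p) * y) := by rw [hy]; rfl
        _ = 0 := by rw [← mul_assoc, (E.idem p).mul_one_sub_self, zero_mul]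
    · rintro ⟨b, d⟩
      obtain ⟨x, rfl⟩ := hf p b
      obtain ⟨y, rfl⟩ := E.compl.proj_surjective p d
      refine ⟨(1 - E.e p) * x + E.e p * y, Prod.ext ?_ ?_⟩
      · change f.hom.app p ((1 - E.e p) * x + E.e p * y) = f.hom.app p x
        rw [← sub_eq_zero, ← map_sub, hker]
        exact Ideal.mem_span_singleton.mpr ⟨y - x, by ring⟩
      · change E.compl.proj.app p ((1 - E.e p) * x + E.e p * y) = E.compl.proj.app p y
        rw [← sub_eq_zero, ← map_sub]
        exact (E.compl.proj_eq_zero_iff p _).mpr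
          (Ideal.mem_span_singleton.mpr ⟨x - y, by change _ = (1 - E.e p) * (x - y); ring⟩)
  refine ⟨D, π, ⟨BinaryFan.IsLimit.mk _ (fun {T} s t =>
    ObjectProperty.homMk (prodLift B.obj D.obj s.hom t.hom ≫ invOfBijective u hu))
    (fun s t => fet_ext fun p a => ?_) (fun s t => fet_ext fun p a => ?_)
    (fun s t m h₁ h₂ => fet_ext fun p a => ?_)⟩⟩
  · exact congrArg Prod.fst ((AlgEquiv.ofBijective (u.app p) (hu p)).apply_symm_apply
      ((prodLift B.obj D.obj s.hom t.hom).app p a))
  · exact congrArg Prod.snd ((AlgEquiv.ofBijective (u.app p) (hu p)).apply_symm_apply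
      ((prodLift B.obj D.obj s.hom t.hom).app p a))
  · apply (hu p).1
    refine Eq.trans ?_ ((AlgEquiv.ofBijective (u.app p) (hu p)).apply_symm_apply
      ((prodLift B.obj D.obj s.hom t.hom).app p a)).symm
    exact Prod.ext (congrArg (fun φ => φ.hom.app p a) h₁) (congrArg (fun φ => φ.hom.app p a) h₂)

theorem injective_of_mono (hX : X.IsSchematic) {A B : FEt X} (f : A ⟶ B) [Mono f] (p : X.pt) :
    Function.Injective (f.hom.app p) := by
  obtain ⟨E, hE⟩ := exists_kerIdem f.hom hX A.property B.property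
  have hkill : ∀ p, f.hom.app p (E.e p) = 0 := fun p =>
    RingHom.mem_ker.mp ((hE p).ge (Ideal.mem_span_singleton_self _))
  -- the kernel pair `A ×_B A ≅ A × A / (1 - e)`
  let a₁ := prodFst A.obj A.obj ≫ f.hom
  let a₂ := prodSnd A.obj A.obj ≫ f.hom
  let ψ : eqAlg a₁ a₂ ⟶ prodAlg A.obj E.compl.quot :=
    prodLift _ _ (eqι a₁ a₂ ≫ prodFst _ _) (eqι a₁ a₂ ≫ prodSnd _ _ ≫ E.compl.proj)
  have hψ : ∀ q, Function.Bijective (ψ.app q) := by
    intro q
    refine ⟨(injective_iff_map_eq_zero _).mpr fun z hz => ?_, ?_⟩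
    · have hx : z.1.1 = 0 := congrArg Prod.fst hz
      obtain ⟨y, hy⟩ := Ideal.mem_span_singleton.mp
        ((E.compl.proj_eq_zero_iff q z.1.2).mp (congrArg Prod.snd hz))
      have hz2 : z.1.2 ∈ Ideal.span {E.e q} := by
        rw [← hE q, RingHom.mem_ker]
        refine (z.2 : f.hom.app q z.1.1 = f.hom.app q z.1.2).symm.trans ?_
        exact (congrArg (f.hom.app q) hx).trans (map_zero _)
      obtain ⟨w, hw⟩ := Ideal.mem_span_singleton.mp hz2
      have h0 : z.1.2 = 0 := by
        calc z.1.2 = E.e q * z.1.2 := by rw [hw, ← mul_assoc, (E.idem q).eq]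
          _ = E.e q * ((1 - E.e q) * y) := by rw [hy]; rfl
          _ = 0 := by rw [← mul_assoc, (E.idem q).mul_one_sub_self, zero_mul]
      exact Subtype.ext (Prod.ext hx h0)
    · rintro ⟨a, d⟩
      obtain ⟨b, rfl⟩ := E.compl.proj_surjective q d
      refine ⟨⟨(a, (1 - E.e q) * a + E.e q * b), ?_⟩, Prod.ext rfl ?_⟩
      · change f.hom.app q a = f.hom.app q ((1 - E.e q) * a + E.e q * b)
        rw [map_add, map_mul, map_mul, map_sub, map_one, hkill q]
        simp
      · change E.compl.proj.app q ((1 - E.e q) * a + E.e q * b) = E.compl.proj.app q b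
        rw [← sub_eq_zero, ← map_sub]
        exact (E.compl.proj_eq_zero_iff q _).mpr
          (Ideal.mem_span_singleton.mpr ⟨a - b, by change _ = (1 - E.e q) * (a - b); ring⟩)
  have hK : (eqAlg a₁ a₂).IsEtCover := by
    refine ⟨isQcoh_eqAlg a₁ a₂ hX (isQcoh_prodAlg _ _ A.property.1 A.property.1) B.property.1,
      fun q => ?_⟩
    have hP := (isEtCover_prodAlg A.property (E.compl.isEtCover_quot A.property)).2 q
    haveI := hP.1
    haveI := hP.2
    exact ⟨Module.Finite.equiv (AlgEquiv.ofBijective (ψ.app q) (hψ q)).symm.toLinearEquiv,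
      Algebra.Etale.of_equiv (AlgEquiv.ofBijective (ψ.app q) (hψ q)).symm⟩
  let K : FEt X := ⟨eqAlg a₁ a₂, hK⟩
  let k₁ : K ⟶ A := ObjectProperty.homMk (eqι a₁ a₂ ≫ prodFst _ _)
  let k₂ : K ⟶ A := ObjectProperty.homMk (eqι a₁ a₂ ≫ prodSnd _ _)
  have h12 : k₁ = k₂ := by
    rw [← cancel_mono f]
    exact fet_ext fun q z => z.2
  refine (injective_iff_map_eq_zero (f.hom.app p)).mpr fun a ha => ?_
  exact ((congrArg (fun φ => φ.hom.app p (⟨(0, a), (map_zero (f.hom.app p)).trans ha.symm⟩ :
    (eqAlg a₁ a₂).carrier p)) h12)).symm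

end Groth.Agent.SchFinLib
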