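import Groth.Agent.SchFinLib.Fibre

set_option backward.isDefEq.respectTransparency false
set_option backward.defeqAttrib.useBackward true

universe u

open TensorProduct CategoryTheory CategoryTheory.Limits Opposite

namespace Groth.Agent.SchFinLib

open SchFin

variable {X : RSpace.{u}} {Ω : Type u} [Field Ω] [IsAlgClosed Ω] (ξ : GeomPt X Ω)

theorem map_apply {A B : (FEt X)ᵒᵖ} (g : A ⟶ B) (x : (FintypeCat.incl.obj (ξ.fibFunctor.obj A))) :
    (FintypeCat.incl.map (ξ.fibFunctor.map g)) x = ξ.fibMap g.unop.hom x := rfl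

theorem preservesPullbacks (hX : X.IsSchematic) :
    PreservesLimitsOfShape WalkingCospan ξ.fibFunctor := by
  have hsq : ∀ {P Q Z : (FEt X)ᵒᵖ} (h : P ⟶ Z) (i : Q ⟶ Z),
      PreservesLimit (cospan h i) ξ.fibFunctor := by
    intro P Q Z h i
    obtain ⟨c, ⟨hc⟩, huniv⟩ := exists_pushout hX h.unop i.unop
    have hpb : IsPullback c.inl.op c.inr.op h i := (IsPushout.of_isColimit hc).op.flip
    have hmap : IsPullback (ξ.fibFunctor.map c.inl.op) (ξ.fibFunctor.map c.inr.op)
        (ξ.fibFunctor.map h) (ξ.fibFunctor.map i) := by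
      refine IsPullback.of_map FintypeCat.incl ?_ ?_
      · rw [← Functor.map_comp, ← Functor.map_comp, hpb.w]
      · rw [Types.isPullback_iff]
        refine ⟨?_, ?_, ?_⟩
        · rw [← Functor.map_comp, ← Functor.map_comp, ← Functor.map_comp, ← Functor.map_comp, hpb.w]
        · rintro x y ⟨h1, h2⟩
          change ξ.fibMap c.inl.hom x = ξ.fibMap c.inl.hom y at h1
          change ξ.fibMap c.inr.hom x = ξ.fibMap c.inr.hom y at h2
          obtain ⟨φ, rfl⟩ := (fibEquiv ξ c.pt).surjective x
          obtain ⟨ψ, rfl⟩ := (fibEquiv ξ c.pt).surjective y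
          rw [← fibEquiv_comp, ← fibEquiv_comp] at h1
          rw [← fibEquiv_comp, ← fibEquiv_comp] at h2
          have e1 := (fibEquiv ξ P.unop).injective h1
          have e2 := (fibEquiv ξ Q.unop).injective h2
          refine congrArg _ (Pt.ext ?_)
          exact (huniv ξ.base Ω (φ.comp c.inl.hom).hom (φ.comp c.inr.hom).hom (fun z =>
              congrArg (fun a => φ.hom a)
                (congrArg (fun w => w.hom.app ξ.base z) c.condition))).unique
            ⟨rfl, rfl⟩ ⟨congrArg Pt.hom e1.symm, congrArg Pt.hom e2.symm⟩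
        · intro x y hxy
          change ξ.fibMap h.unop.hom x = ξ.fibMap i.unop.hom y at hxy
          obtain ⟨φ, rfl⟩ := (fibEquiv ξ P.unop).surjective x
          obtain ⟨ψ, rfl⟩ := (fibEquiv ξ Q.unop).surjective y
          rw [← fibEquiv_comp, ← fibEquiv_comp] at hxy
          have e := congrArg Pt.hom ((fibEquiv ξ Z.unop).injective hxy)
          obtain ⟨w, ⟨hw1, hw2⟩, -⟩ := huniv ξ.base Ω φ.hom ψ.hom (fun z => RingHom.congr_fun e z)
          let χ : Pt ξ c.pt.obj := ⟨w, fun r => by
            rw [← (c.inl.hom.app ξ.base).commutes r]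
            exact (RingHom.congr_fun hw1 _).trans (φ.comm r)⟩
          refine ⟨fibEquiv ξ c.pt χ, ?_, ?_⟩
          · change ξ.fibMap c.inl.hom (fibEquiv ξ c.pt χ) = _
            rw [← fibEquiv_comp]
            exact congrArg _ (Pt.ext hw1)
          · change ξ.fibMap c.inr.hom (fibEquiv ξ c.pt χ) = _
            rw [← fibEquiv_comp]
            exact congrArg _ (Pt.ext hw2)
    exact preservesLimit_of_preserves_limit_cone hpb.isLimit
      ((isLimitMapConePullbackConeEquiv ξ.fibFunctor hpb.w).symm hmap.isLimit)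
  constructor
  intro K
  haveI := hsq (K.map WalkingCospan.Hom.inl) (K.map WalkingCospan.Hom.inr)
  exact preservesLimit_of_iso_diagram ξ.fibFunctor (diagramIsoCospan K).symm

theorem preservesTerminal (hX : X.IsSchematic) :
    PreservesLimitsOfShape (Discrete PEmpty.{1}) ξ.fibFunctor := by
  let T : (FEt X)ᵒᵖ := op (strObj hX)
  have hT : IsTerminal T := IsTerminal.ofUniqueHom (fun A => (strDesc hX A.unop).op)
    (fun A m => Quiver.Hom.unop_inj (fet_ext fun p (a : X.ring p) => (m.unop.hom.app p).commutes a))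
  let φ₀ : Pt ξ (strObj hX).obj := ⟨ξ.toField, fun _ => rfl⟩
  have hall : ∀ y : ξ.Fib (strObj hX).obj, y = fibEquiv ξ (strObj hX) φ₀ := by
    intro y
    obtain ⟨φ, rfl⟩ := (fibEquiv ξ (strObj hX)).surjective y
    exact congrArg _ (Pt.ext (RingHom.ext fun r => φ.comm r))
  have hsub : IsTerminal (ξ.fibFunctor.obj T) :=
    IsTerminal.ofUniqueHom
      (fun S => InducedCategory.homMk (TypeCat.ofHom (fun _ => fibEquiv ξ (strObj hX) φ₀)))
      (fun S m => by
        apply InducedCategory.hom_ext
        ext s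
        exact hall _)
  haveI : HasTerminal (FEt X)ᵒᵖ := hT.hasTerminal
  haveI : HasTerminal FintypeCat.{u} := hsub.hasTerminal
  haveI : PreservesLimit (Functor.empty.{0} (FEt X)ᵒᵖ) ξ.fibFunctor :=
    preservesTerminal_of_iso ξ.fibFunctor
      ((ξ.fibFunctor.mapIso (terminalIsTerminal.uniqueUpToIso hT)).trans
        (hsub.uniqueUpToIso terminalIsTerminal))
  exact preservesLimitsOfShape_pempty_of_preservesTerminal ξ.fibFunctor

theorem preservesBinaryCoproducts :
    PreservesColimitsOfShape (Discrete WalkingPair) ξ.fibFunctor := by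
  constructor
  intro K
  let A := K.obj ⟨WalkingPair.left⟩
  let B := K.obj ⟨WalkingPair.right⟩
  suffices h : PreservesColimit (pair A B) ξ.fibFunctor from
    preservesColimit_of_iso_diagram ξ.fibFunctor (diagramIsoPair K).symm
  let P : FEt X := ⟨prodAlg A.unop.obj B.unop.obj, isEtCover_prodAlg A.unop.property B.unop.property⟩
  let π₁ : P ⟶ A.unop := ObjectProperty.homMk (prodFst A.unop.obj B.unop.obj)
  let π₂ : P ⟶ B.unop := ObjectProperty.homMk (prodSnd A.unop.obj B.unop.obj)
  have hP : IsColimit (BinaryCofan.mk π₁.op π₂.op : BinaryCofan A B) :=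
    BinaryCofan.IsColimit.mk _
      (fun {T} f g => (ObjectProperty.homMk (prodLift A.unop.obj B.unop.obj f.unop.hom g.unop.hom) :
        T.unop ⟶ P).op)
      (fun f g => Quiver.Hom.unop_inj (fet_ext fun p a => rfl))
      (fun f g => Quiver.Hom.unop_inj (fet_ext fun p a => rfl))
      (fun f g m h₁ h₂ => Quiver.Hom.unop_inj (fet_ext fun p a => Prod.ext
        (congrArg (fun φ => φ.unop.hom.app p a) h₁) (congrArg (fun φ => φ.unop.hom.app p a) h₂)))
  refine preservesColimit_of_preserves_colimit_cocone hP ?_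
  refine (isColimitMapCoconeBinaryCofanEquiv ξ.fibFunctor π₁.op π₂.op).symm ?_
  apply isColimitOfReflects FintypeCat.incl
  refine (isColimitMapCoconeBinaryCofanEquiv FintypeCat.incl _ _).symm ?_
  refine Nonempty.some ((Types.binaryCofan_isColimit_iff _).mpr ?_)
  have hfst : ∀ φ : Pt ξ A.unop.obj, ∀ ψ : Pt ξ B.unop.obj,
      φ.comp π₁.hom ≠ ψ.comp π₂.hom := by
    intro φ ψ h
    have := congrArg (fun z => z.hom ((1, 0) : A.unop.obj.carrier ξ.base × B.unop.obj.carrier ξ.base)) h
    change φ.hom 1 = ψ.hom 0 at this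
    rw [map_one, map_zero] at this
    exact one_ne_zero this
  refine ⟨?_, ?_, Set.disjoint_left.mpr ?_ |> fun hd => ⟨hd, ?_⟩⟩
  · intro x y hxy
    change ξ.fibMap π₁.hom x = ξ.fibMap π₁.hom y at hxy
    obtain ⟨φ, rfl⟩ := (fibEquiv ξ A.unop).surjective x
    obtain ⟨ψ, rfl⟩ := (fibEquiv ξ A.unop).surjective y
    rw [← fibEquiv_comp, ← fibEquiv_comp] at hxy
    have e := (fibEquiv ξ P).injective hxy
    exact congrArg _ (Pt.ext (RingHom.ext fun a =>
      congrArg (fun z => z.hom ((a, 0) : A.unop.obj.carrier ξ.base × B.unop.obj.carrier ξ.base)) e))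
  · intro x y hxy
    change ξ.fibMap π₂.hom x = ξ.fibMap π₂.hom y at hxy
    obtain ⟨φ, rfl⟩ := (fibEquiv ξ B.unop).surjective x
    obtain ⟨ψ, rfl⟩ := (fibEquiv ξ B.unop).surjective y
    rw [← fibEquiv_comp, ← fibEquiv_comp] at hxy
    have e := (fibEquiv ξ P).injective hxy
    exact congrArg _ (Pt.ext (RingHom.ext fun a =>
      congrArg (fun z => z.hom ((0, a) : A.unop.obj.carrier ξ.base × B.unop.obj.carrier ξ.base)) e))
  · rintro z ⟨x, hx⟩ ⟨y, hy⟩
    change ξ.fibMap π₁.hom x = z at hx
    change ξ.fibMap π₂.hom y = z at hy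
    obtain ⟨φ, rfl⟩ := (fibEquiv ξ A.unop).surjective x
    obtain ⟨ψ, rfl⟩ := (fibEquiv ξ B.unop).surjective y
    rw [← fibEquiv_comp] at hx hy
    exact hfst φ ψ ((fibEquiv ξ P).injective (hx.trans hy.symm))
  · rw [codisjoint_iff_le_sup]
    intro z _
    obtain ⟨χ, rfl⟩ := (fibEquiv ξ P).surjective z
    let μ : A.unop.obj.carrier ξ.base × B.unop.obj.carrier ξ.base →+* Ω := χ.hom
    have hcomm : ∀ r, μ (algebraMap (X.ring ξ.base)
        (A.unop.obj.carrier ξ.base × B.unop.obj.carrier ξ.base) r) = ξ.toField r := χ.comm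
    let e₁ : A.unop.obj.carrier ξ.base × B.unop.obj.carrier ξ.base := (1, 0)
    have hidem : IsIdempotentElem (μ e₁) := IsIdempotentElem.map
      (show IsIdempotentElem e₁ from Prod.ext (one_mul _) (mul_zero _)) μ
    have hfstμ : ∀ z, μ e₁ * μ z = μ (z.1, 0) := fun z => by
      rw [← map_mul]
      exact congrArg μ (Prod.ext (one_mul _) (zero_mul _))
    have hsndμ : ∀ z, μ z = μ e₁ * μ z + μ (0, z.2) := fun z => by
      rw [hfstμ, ← map_add]
      exact congrArg μ (Prod.ext (add_zero _).symm (zero_add _).symm)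
    rcases IsIdempotentElem.iff_eq_zero_or_one.mp hidem with h0 | h1
    · right
      have hval : ∀ z, μ z = μ (0, z.2) := fun z => by
        have := hsndμ z
        rwa [h0, zero_mul, zero_add] at this
      let ψ : Pt ξ B.unop.obj :=
        { hom :=
            { toFun := fun b => μ (0, b)
              map_one' := (hval 1).symm.trans (map_one μ)
              map_mul' := fun a b => by rw [← map_mul]; exact congrArg μ (Prod.ext (mul_zero _).symm rfl)
              map_zero' := map_zero μ
              map_add' := fun a b => by rw [← map_add]; exact congrArg μ (Prod.ext (add_zero _).symm rfl) }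
          comm := fun r => (hval _).symm.trans (hcomm r) }
      refine ⟨fibEquiv ξ B.unop ψ, ?_⟩
      change ξ.fibMap π₂.hom (fibEquiv ξ B.unop ψ) = _
      rw [← fibEquiv_comp]
      exact congrArg _ (Pt.ext (RingHom.ext fun z => (hval z).symm))
    · left
      have hval : ∀ z, μ z = μ (z.1, 0) := fun z => by
        rw [← hfstμ, h1, one_mul]
      let φ : Pt ξ A.unop.obj :=
        { hom :=
            { toFun := fun a => μ (a, 0)
              map_one' := h1
              map_mul' := fun a b => by rw [← map_mul]; exact congrArg μ (Prod.ext rfl (mul_zero _).symm)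
              map_zero' := map_zero μ
              map_add' := fun a b => by rw [← map_add]; exact congrArg μ (Prod.ext rfl (add_zero _).symm) }
          comm := fun r => (hval _).symm.trans (hcomm r) }
      refine ⟨fibEquiv ξ A.unop φ, ?_⟩
      change ξ.fibMap π₁.hom (fibEquiv ξ A.unop φ) = _
      rw [← fibEquiv_comp]
      exact congrArg _ (Pt.ext (RingHom.ext fun z => (hval z).symm))

theorem preservesInitial (hX : X.IsSchematic) :
    PreservesColimitsOfShape (Discrete PEmpty.{1}) ξ.fibFunctor := by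
  let Z : (FEt X)ᵒᵖ := op (zeroObj hX)
  have hZ : IsInitial Z := IsInitial.ofUniqueHom (fun A => (zeroLift hX A.unop).op)
    (fun A m => Quiver.Hom.unop_inj (fet_ext fun p a => (subsingleton_zeroObj hX p).elim _ _))
  haveI hempty : IsEmpty (ξ.Fib (zeroObj hX).obj) := by
    refine (Equiv.isEmpty_congr (fibEquiv ξ (zeroObj hX))).mp ⟨fun φ => ?_⟩
    have := congrArg φ.hom ((subsingleton_zeroObj hX ξ.base).elim 1 0)
    rw [map_one, map_zero] at this
    exact one_ne_zero this
  have hsub : IsInitial (ξ.fibFunctor.obj Z) :=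
    IsInitial.ofUniqueHom
      (fun S => InducedCategory.homMk (TypeCat.ofHom (fun x => (hempty.false x).elim)))
      (fun S m => by
        apply InducedCategory.hom_ext
        ext x
        exact (hempty.false x).elim)
  haveI : HasInitial (FEt X)ᵒᵖ := hZ.hasInitial
  haveI : HasInitial FintypeCat.{u} := hsub.hasInitial
  haveI : PreservesColimit (Functor.empty.{0} (FEt X)ᵒᵖ) ξ.fibFunctor :=
    preservesInitial_of_iso ξ.fibFunctor
      ((initialIsInitial.uniqueUpToIso hsub).trans
        (ξ.fibFunctor.mapIso (hZ.uniqueUpToIso initialIsInitial)))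
  exact preservesColimitsOfShape_pempty_of_preservesInitial ξ.fibFunctor

theorem preservesFiniteCoproducts (hX : X.IsSchematic) :
    PreservesFiniteCoproducts ξ.fibFunctor := by
  haveI := preservesBinaryCoproducts ξ
  haveI := preservesInitial ξ hX
  haveI : HasTerminal (FEt X) := hasTerminal hX
  haveI : HasBinaryProducts (FEt X) := hasBinaryProducts
  haveI : HasFiniteProducts (FEt X) := hasFiniteProducts_of_has_binary_and_terminal
  exact ⟨fun n => PreservesFiniteCoproducts.of_preserves_binary_and_initial ξ.fibFunctor _⟩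

theorem fibMap_surjective_of_injective (A B : FEt X) (f : A ⟶ B)
    (hf : Function.Injective (f.hom.app ξ.base)) : Function.Surjective (ξ.fibMap f.hom) := by
  intro x
  obtain ⟨φ, rfl⟩ := (fibEquiv ξ A).surjective x
  haveI := (A.property.2 ξ.base).1
  haveI := (A.property.2 ξ.base).2
  haveI := (B.property.2 ξ.base).1
  haveI := (B.property.2 ξ.base).2
  letI := (f.hom.app ξ.base).toRingHom.toAlgebra
  haveI : IsScalarTower (X.ring ξ.base) (A.obj.carrier ξ.base) (B.obj.carrier ξ.base) :=
    IsScalarTower.of_algebraMap_eq fun r => ((f.hom.app ξ.base).commutes r).symm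
  haveI : Module.Finite (A.obj.carrier ξ.base) (B.obj.carrier ξ.base) :=
    Module.Finite.of_restrictScalars_finite (X.ring ξ.base) _ _
  haveI : Algebra.IsIntegral (A.obj.carrier ξ.base) (B.obj.carrier ξ.base) :=
    Algebra.IsIntegral.of_finite _ _
  haveI : (RingHom.ker φ.hom).IsPrime := RingHom.ker_isPrime _
  obtain ⟨Q, -, hQ⟩ := Ideal.exists_ideal_over_prime_of_isIntegral (RingHom.ker φ.hom)
    (⊥ : Ideal (B.obj.carrier ξ.base))
    (by rw [Ideal.comap_bot_of_injective (algebraMap (A.obj.carrier ξ.base) (B.obj.carrier ξ.base)) hf]; exact bot_le)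
  haveI := hQ.1
  letI : Algebra (A.obj.carrier ξ.base ⧸ RingHom.ker φ.hom) Ω := (RingHom.kerLift φ.hom).toAlgebra
  haveI : FaithfulSMul (A.obj.carrier ξ.base ⧸ RingHom.ker φ.hom) Ω :=
    (faithfulSMul_iff_algebraMap_injective _ _).mpr (RingHom.kerLift_injective φ.hom)
  haveI : Q.LiesOver (RingHom.ker φ.hom) := ⟨hQ.2.symm⟩
  let ψ : (B.obj.carrier ξ.base ⧸ Q) →ₐ[A.obj.carrier ξ.base ⧸ RingHom.ker φ.hom] Ω := IsAlgClosed.lift
  let χ : Pt ξ B.obj :=
    { hom := ψ.toRingHom.comp (Ideal.Quotient.mk Q)
      comm := fun r => by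
        rw [← (f.hom.app ξ.base).commutes r]
        exact (ψ.commutes (Ideal.Quotient.mk _ (algebraMap _ _ r))).trans (φ.comm r) }
  refine ⟨fibEquiv ξ B χ, ?_⟩
  rw [← fibEquiv_comp]
  exact congrArg _ (Pt.ext (RingHom.ext fun a => ψ.commutes (Ideal.Quotient.mk _ a)))

theorem preservesEpimorphisms (hX : X.IsSchematic) : ξ.fibFunctor.PreservesEpimorphisms := by
  constructor
  intro A B g hg
  haveI : Mono g.unop := inferInstance
  haveI : Epi (FintypeCat.incl.map (ξ.fibFunctor.map g)) := by
    rw [CategoryTheory.epi_iff_surjective]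
    exact fibMap_surjective_of_injective ξ _ _ g.unop (injective_of_mono hX g.unop ξ.base)
  exact FintypeCat.incl.epi_of_epi_map this

end Groth.Agent.SchFinLib
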