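import Groth.Agent.SchFinLib.EtFixed
import Groth.Agent.SchFinLib.Preserves

set_option backward.isDefEq.respectTransparency false
set_option backward.defeqAttrib.useBackward true

universe u

open TensorProduct CategoryTheory CategoryTheory.Limits Opposite

namespace Groth.Agent.SchFinLib

open SchFin

variable {X : RSpace.{u}}

/-- The splitting hypothesis. -/
abbrev HLT (X : RSpace.{u}) : Prop :=
  ∀ A : FEt X, ∃ (B : Alg X) (n : ℕ), B.IsCovering ∧
    ∀ p : X.pt, Nonempty (TensorProduct (X.ring p) (B.carrier p) (A.obj.carrier p) ≃ₐ[B.carrier p]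
      (Fin n → B.carrier p))

section PiAlg

variable {G : Type u} [Finite G] (A : G → Alg X)

/-- Finite products of algebras. -/
def piAlg : Alg X where
  carrier p := ∀ g, (A g).carrier p
  res h := Pi.ringHom fun g => ((A g).res h).comp (Pi.evalRingHom _ g)
  res_algebraMap h a := funext fun g => (A g).res_algebraMap h a
  res_self p b := funext fun g => (A g).res_self p (b g)
  res_comp h h' b := funext fun g => (A g).res_comp h h' (b g)

/-- Universal map into a product. -/
def piLift {C : Alg X} (f : ∀ g, C ⟶ A g) : C ⟶ piAlg A where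
  app p := AlgHom.pi fun g => (f g).app p
  compat h c := funext fun g => (f g).compat h c

theorem isQcoh_piAlg (hA : ∀ g, (A g).IsQcoh) : (piAlg A).IsQcoh := by
  classical
  haveI : Fintype G := Fintype.ofFinite G
  refine isQcoh_of_bijective _ fun {p q} h => ?_
  letI := (X.res h).toAlgebra
  let e := TensorProduct.piRight (X.ring p) (X.ring p) (X.ring q) (fun g => (A g).carrier p)
  have key : ∀ t, bcA (piAlg A) h t = fun g => bcA (A g) h (e t g) := by
    intro t
    induction t using TensorProduct.induction_on with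
    | zero => funext g; simp only [map_zero, Pi.zero_apply]; rfl
    | tmul s a => rfl
    | add x y hx hy =>
      funext g
      simp only [map_add, Pi.add_apply]
      exact (congrArg₂ (fun u v => u g + v g) hx hy)
  rw [show ⇑(bcA (piAlg A) h) = (fun v g => bcA (A g) h (v g)) ∘ e from funext key]
  exact (Function.Bijective.piMap fun g => bijective_bcA (hA g) h).comp e.bijective

end PiAlg

section Fixed

variable {G : Type u} [Finite G] (A : FEt X) (σ : G → (A ⟶ A))

/-- The fixed algebra. -/
def fixedAlg : Alg X :=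
  eqAlg (piLift (fun _ : G => A.obj) fun g => (σ g).hom)
    (piLift (fun _ : G => A.obj) fun _ => 𝟙 A.obj)

theorem mem_fixed_iff (p : X.pt) (a : A.obj.carrier p) :
    a ∈ AlgHom.equalizer ((piLift (fun _ : G => A.obj) fun g => (σ g).hom).app p)
      ((piLift (fun _ : G => A.obj) fun _ => 𝟙 A.obj).app p) ↔
    ∀ g, (σ g).hom.app p a = a :=
  ⟨fun h g => congrFun h g, fun h => funext h⟩

theorem isEtCover_fixed (hX : X.IsSchematic) (hlt : HLT X) : (fixedAlg A σ).IsEtCover := by
  refine ⟨isQcoh_eqAlg _ _ hX A.property.1 (isQcoh_piAlg _ fun _ => A.property.1), fun p => ?_⟩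
  obtain ⟨B, n, hB, hsplit⟩ := hlt A
  obtain ⟨ψ⟩ := hsplit p
  haveI := (A.property.2 p).1
  haveI := (hB.2 p).2
  haveI := isNoetherianRing hX p
  exact etale_fixed (fun g => (σ g).hom.app p) _ (mem_fixed_iff A σ p) ψ

/-- The fixed algebra as an étale cover. -/
noncomputable def fixedObj (hX : X.IsSchematic) (hlt : HLT X) : FEt X :=
  ⟨fixedAlg A σ, isEtCover_fixed A σ hX hlt⟩

/-- The inclusion of the fixed algebra. -/
noncomputable def fixedι (hX : X.IsSchematic) (hlt : HLT X) : fixedObj A σ hX hlt ⟶ A :=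
  ObjectProperty.homMk (eqι (piLift (fun _ : G => A.obj) fun g => (σ g).hom)
    (piLift (fun _ : G => A.obj) fun _ => 𝟙 A.obj))

theorem fixedι_comp (hX : X.IsSchematic) (hlt : HLT X) (g : G) :
    fixedι A σ hX hlt ≫ σ g = fixedι A σ hX hlt :=
  fet_ext fun p z => (mem_fixed_iff A σ p z.1).mp z.2 g

/-- Factorisation through the fixed algebra. -/
noncomputable def fixedLift (hX : X.IsSchematic) (hlt : HLT X) {T : FEt X} (k : T ⟶ A)
    (hk : ∀ g, k ≫ σ g = k) : T ⟶ fixedObj A σ hX hlt :=
  ObjectProperty.homMk (eqLift _ _ k.hom (Alg.hom_ext _ _ fun p => AlgHom.ext fun t => funext fun g =>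
    congrArg (fun φ => φ.hom.app p t) (hk g)))

theorem fixed_hom_ext (hX : X.IsSchematic) (hlt : HLT X) {T : FEt X}
    {k k' : T ⟶ fixedObj A σ hX hlt} (h : k ≫ fixedι A σ hX hlt = k' ≫ fixedι A σ hX hlt) : k = k' :=
  fet_ext fun p t => Subtype.ext (congrArg (fun φ => φ.hom.app p t) h)

variable {Ω : Type u} [Field Ω] [IsAlgClosed Ω] (ξ : GeomPt X Ω)

/-- Two points agreeing on the fixed algebra are conjugate. -/
theorem exists_eq_comp_of_comp_fixedι (hX : X.IsSchematic) (hlt : HLT X) (g₀ : G) (hg₀ : σ g₀ = 𝟙 A)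
    (hmul : ∀ h, ∃ π : G ≃ G, ∀ g, σ g ≫ σ h = σ (π g))
    (φ φ' : Pt ξ A.obj) (h : φ.comp (fixedι A σ hX hlt).hom = φ'.comp (fixedι A σ hX hlt).hom) :
    ∃ g, φ' = φ.comp (σ g).hom := by
  classical
  haveI : Fintype G := Fintype.ofFinite G
  haveI := (A.property.2 ξ.base).1
  obtain ⟨m, a, ha⟩ := Module.Finite.exists_fin (R := X.ring ξ.base) (M := A.obj.carrier ξ.base)
  let P : Polynomial (A.obj.carrier ξ.base) := ∑ i : Fin m, Polynomial.monomial (i : ℕ) (a i)
  let s : G → A.obj.carrier ξ.base →+* A.obj.carrier ξ.base := fun g => ((σ g).hom.app ξ.base).toRingHom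
  let Q : Polynomial (Polynomial (A.obj.carrier ξ.base)) :=
    ∏ g, (Polynomial.X - Polynomial.C (P.map (s g)))
  have hfix : ∀ h, Q.map (Polynomial.mapRingHom (s h)) = Q := by
    intro h
    obtain ⟨π, hπ⟩ := hmul h
    simp only [Q, Polynomial.map_prod, Polynomial.map_sub, Polynomial.map_X, Polynomial.map_C,
      Polynomial.coe_mapRingHom, Polynomial.map_map]
    have hs : ∀ g, (s h).comp (s g) = s (π g) := fun g => by
      ext z
      exact congrArg (fun ψ => ψ.hom.app ξ.base z) (hπ g)
    simp_rw [hs]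
    exact Equiv.prod_comp π fun g => Polynomial.X - Polynomial.C (P.map (s g))
  have hmap : Q.map (Polynomial.mapRingHom φ.hom) = Q.map (Polynomial.mapRingHom φ'.hom) := by
    refine Polynomial.ext fun i => Polynomial.ext fun j => ?_
    simp only [Polynomial.coeff_map, Polynomial.coe_mapRingHom]
    have hm : ∀ g, (σ g).hom.app ξ.base ((Q.coeff i).coeff j) = (Q.coeff i).coeff j := fun g => by
      have := congrArg (fun R => (R.coeff i).coeff j) (hfix g)
      simp only [Polynomial.coeff_map, Polynomial.coe_mapRingHom] at this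
      exact this
    exact congrArg (fun χ => χ.hom
      (⟨(Q.coeff i).coeff j, (mem_fixed_iff A σ ξ.base _).mpr hm⟩ :
        (fixedAlg A σ).carrier ξ.base)) h
  have hzero : (Q.map (Polynomial.mapRingHom φ'.hom)).eval (P.map φ'.hom) = 0 := by
    simp only [Q, Polynomial.map_prod, Polynomial.eval_prod]
    refine Finset.prod_eq_zero (Finset.mem_univ g₀) ?_
    have : s g₀ = RingHom.id _ := by
      ext z
      exact congrArg (fun ψ => ψ.hom.app ξ.base z) hg₀
    simp [this]
  rw [← hmap] at hzero
  simp only [Q, Polynomial.map_prod, Polynomial.eval_prod, Finset.prod_eq_zero_iff] at hzero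
  obtain ⟨g, -, hg⟩ := hzero
  simp only [Polynomial.map_sub, Polynomial.map_X, Polynomial.map_C, Polynomial.eval_sub,
    Polynomial.eval_X, Polynomial.eval_C, Polynomial.coe_mapRingHom, Polynomial.map_map,
    sub_eq_zero] at hg
  refine ⟨g, Pt.ext (RingHom.ext fun z => ?_)⟩
  have hi : ∀ i, φ'.hom (a i) = φ.hom ((σ g).hom.app ξ.base (a i)) := by
    intro i
    have hc : P.coeff i = a i := by
      simp only [P, Polynomial.finsetSum_coeff, Polynomial.coeff_monomial]
      rw [Finset.sum_eq_single i]
      · simp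
      · intro j _ hj
        rw [if_neg (fun hji => hj (Fin.ext hji))]
      · simp
    have := congrArg (fun R => R.coeff (i : ℕ)) hg
    simp only [Polynomial.coeff_map, hc] at this
    exact this
  have hz : z ∈ Submodule.span (X.ring ξ.base) (Set.range a) := ha ▸ Submodule.mem_top
  change φ'.hom z = φ.hom ((σ g).hom.app ξ.base z)
  induction hz using Submodule.span_induction with
  | mem x hx =>
    obtain ⟨i, rfl⟩ := hx
    exact hi i
  | zero => simp
  | add x y _ _ hx hy => simp only [map_add, hx, hy]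
  | smul r x _ hx =>
    rw [Algebra.smul_def, map_mul, map_mul, map_mul, AlgHom.commutes, φ.comm, φ'.comm, hx]

theorem fixedι_surjective (hX : X.IsSchematic) (hlt : HLT X) :
    Function.Surjective (ξ.fibMap (fixedι A σ hX hlt).hom) :=
  fibMap_surjective_of_injective ξ _ _ (fixedι A σ hX hlt) Subtype.val_injective

end Fixed

variable (G : Type u) [Group G] [Finite G]

theorem hasLimitsOfShape_singleObj (hX : X.IsSchematic) (hlt : HLT X) :
    HasLimitsOfShape (SingleObj G) (FEt X) := by
  constructor
  intro K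
  let A : FEt X := K.obj (SingleObj.star G)
  let σ : G → (A ⟶ A) := fun g => K.map (show SingleObj.star G ⟶ SingleObj.star G from g)
  exact ⟨⟨
    { pt := fixedObj A σ hX hlt
      π :=
        { app := fun _ => fixedι A σ hX hlt
          naturality := fun _ _ g => (Category.id_comp _).trans (fixedι_comp A σ hX hlt g).symm } },
    { lift := fun s => fixedLift A σ hX hlt (s.π.app (SingleObj.star G))
        (fun g => (s.π.naturality (show SingleObj.star G ⟶ SingleObj.star G from g)).symm.trans
          (Category.id_comp _))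
      fac := fun s _ => fet_ext fun p t => rfl
      uniq := fun s m hm => fixed_hom_ext A σ hX hlt (fet_ext fun p t =>
        congrArg (fun φ => φ.hom.app p t) (hm (SingleObj.star G))) }⟩⟩

variable {G}

/-- The action of a group on an object of the opposite category. -/
def act (K : SingleObj G ⥤ (FEt X)ᵒᵖ) (g : G) :
    (K.obj (SingleObj.star G)).unop ⟶ (K.obj (SingleObj.star G)).unop :=
  (K.map (show SingleObj.star G ⟶ SingleObj.star G from g)).unop

theorem act_mul (K : SingleObj G ⥤ (FEt X)ᵒᵖ) (h g : G) : act K g ≫ act K h = act K (g * h) := by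
  change (K.map _).unop ≫ (K.map _).unop = (K.map _).unop
  rw [← unop_comp, ← K.map_comp]
  rfl

theorem act_one (K : SingleObj G ⥤ (FEt X)ᵒᵖ) : act K 1 = 𝟙 _ :=
  congrArg Quiver.Hom.unop (K.map_id (SingleObj.star G))

/-- The quotient cocone. -/
noncomputable def quotCocone (K : SingleObj G ⥤ (FEt X)ᵒᵖ) (hX : X.IsSchematic) (hlt : HLT X) :
    Cocone K where
  pt := op (fixedObj _ (act K) hX hlt)
  ι :=
    { app := fun _ => (fixedι _ (act K) hX hlt).op
      naturality := fun _ _ g => Quiver.Hom.unop_inj
        ((fixedι_comp _ (act K) hX hlt g).trans (Category.comp_id _).symm) }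

/-- The quotient cocone is a colimit. -/
noncomputable def isColimit_quotCocone (K : SingleObj G ⥤ (FEt X)ᵒᵖ) (hX : X.IsSchematic)
    (hlt : HLT X) : IsColimit (quotCocone K hX hlt) where
  desc s := (fixedLift _ (act K) hX hlt (s.ι.app (SingleObj.star G)).unop (fun g =>
    congrArg Quiver.Hom.unop ((s.ι.naturality (show SingleObj.star G ⟶ SingleObj.star G from g)).trans
      (Category.comp_id _)))).op
  fac s _ := Quiver.Hom.unop_inj (fet_ext fun p t => rfl)
  uniq s m hm := Quiver.Hom.unop_inj (fixed_hom_ext _ (act K) hX hlt (fet_ext fun p t =>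
    congrArg (fun φ => φ.unop.hom.app p t) (hm (SingleObj.star G))))

variable {Ω : Type u} [Field Ω] [IsAlgClosed Ω] (ξ : GeomPt X Ω)

theorem preservesQuotients (hX : X.IsSchematic) (hlt : HLT X) :
    PreservesColimitsOfShape (SingleObj G) ξ.fibFunctor := by
  constructor
  intro K
  refine preservesColimit_of_preserves_colimit_cocone (isColimit_quotCocone K hX hlt) ?_
  apply isColimitOfReflects FintypeCat.incl
  let A := (K.obj (SingleObj.star G)).unop
  have hsurj := fixedι_surjective A (act K) ξ hX hlt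
  have horb : ∀ x y : ξ.Fib A.obj,
      ξ.fibMap (fixedι A (act K) hX hlt).hom x = ξ.fibMap (fixedι A (act K) hX hlt).hom y →
        ∃ g, y = ξ.fibMap (act K g).hom x := by
    intro x y hxy
    obtain ⟨φ, rfl⟩ := (fibEquiv ξ A).surjective x
    obtain ⟨φ', rfl⟩ := (fibEquiv ξ A).surjective y
    rw [← fibEquiv_comp, ← fibEquiv_comp] at hxy
    obtain ⟨g, hg⟩ := exists_eq_comp_of_comp_fixedι A (act K) ξ hX hlt 1 (act_one K)
      (fun h => ⟨Equiv.mulRight h, fun g => act_mul K h g⟩) φ φ'
      ((fibEquiv ξ _).injective hxy)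
    exact ⟨g, by rw [← fibEquiv_comp, hg]⟩
  choose r hr using hsurj
  refine
    { desc := fun s => TypeCat.ofHom (fun y => s.ι.app (SingleObj.star G) (r y))
      fac := fun s j => ?_
      uniq := fun s m hm => ?_ }
  · ext x
    change s.ι.app (SingleObj.star G) (r (ξ.fibMap (fixedι A (act K) hX hlt).hom x)) =
      s.ι.app (SingleObj.star G) x
    obtain ⟨g, hg⟩ := horb _ _ (hr (ξ.fibMap (fixedι A (act K) hX hlt).hom x))
    conv_rhs => rw [hg]
    exact (ConcreteCategory.congr_hom (s.ι.naturality
      (show SingleObj.star G ⟶ SingleObj.star G from g)) _).symm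
  · ext y
    conv_lhs => rw [← hr y]
    exact ConcreteCategory.congr_hom (hm (SingleObj.star G)) (r y)

theorem preGaloisCategory (hX : X.IsSchematic) (hlt : HLT X)
    (hepi : ∀ (A B : FEt X) (f : A ⟶ B), Epi f → ∀ p : X.pt, Function.Surjective (f.hom.app p)) :
    PreGaloisCategory (FEt X)ᵒᵖ := by
  haveI := hasInitial hX
  haveI := hasPushouts hX
  haveI := hasTerminal hX
  haveI : HasBinaryProducts (FEt X) := hasBinaryProducts
  haveI : HasFiniteProducts (FEt X) := hasFiniteProducts_of_has_binary_and_terminal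
  exact
  { hasQuotientsByFiniteGroups := fun G _ _ =>
      ⟨fun K => ⟨⟨quotCocone K hX hlt, isColimit_quotCocone K hX hlt⟩⟩⟩
    monoInducesIsoOnDirectSummand := fun {P Q} i _ => by
      obtain ⟨D, π, ⟨hD⟩⟩ := exists_isLimit_of_surjective hX i.unop
        (hepi _ _ i.unop inferInstance)
      exact ⟨op D, π.op, ⟨BinaryFan.IsLimit.op hD⟩⟩ }

theorem exists_preGalois_fiberFunctor (hX : X.IsSchematic) (hwc : X.IsWellConnected) (hlt : HLT X)
    (hepi : ∀ (A B : FEt X) (f : A ⟶ B), Epi f → ∀ p : X.pt, Function.Surjective (f.hom.app p)) :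
    ∃ h : PreGaloisCategory (FEt X)ᵒᵖ,
      @PreGaloisCategory.FiberFunctor (FEt X)ᵒᵖ _ h ξ.fibFunctor := by
  haveI hP := preGaloisCategory hX hlt hepi
  exact ⟨hP,
    { preservesTerminalObjects := preservesTerminal ξ hX
      preservesPullbacks := preservesPullbacks ξ hX
      preservesFiniteCoproducts := preservesFiniteCoproducts ξ hX
      preservesEpis := preservesEpimorphisms ξ hX
      preservesQuotientsByFiniteGroups := fun G _ _ => preservesQuotients ξ hX hlt
      reflectsIsos := reflectsIsomorphisms ξ hX hwc }⟩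

end Groth.Agent.SchFinLib
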