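import Groth.Agent.SchFinLib.Connected

set_option backward.isDefEq.respectTransparency false
set_option backward.defeqAttrib.useBackward true

universe u

open TensorProduct CategoryTheory

namespace Groth.Agent.SchFinLib

open SchFin

variable {X : RSpace.{u}} {Ω : Type u} [Field Ω] [IsAlgClosed Ω] (ξ : GeomPt X Ω)

/-- The `Ω`-valued points of an algebra over the base of a geometric point. -/
@[ext]
structure Pt (A : Alg X) : Type u where
  /-- the ring map -/
  hom : A.carrier ξ.base →+* Ω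
  comm : ∀ r, hom (algebraMap (X.ring ξ.base) (A.carrier ξ.base) r) = ξ.toField r

namespace Pt

variable {ξ}

/-- Composition with a morphism. -/
def comp {A B : Alg X} (φ : Pt ξ B) (f : A ⟶ B) : Pt ξ A where
  hom := φ.hom.comp (f.app ξ.base).toRingHom
  comm r := by
    change φ.hom (f.app ξ.base (algebraMap _ _ r)) = _
    rw [AlgHom.commutes, φ.comm]

theorem comp_apply {A B : Alg X} (φ : Pt ξ B) (f : A ⟶ B) (a : A.carrier ξ.base) :
    (φ.comp f).hom a = φ.hom (f.app ξ.base a) := rfl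

theorem comp_comp {A B C : Alg X} (φ : Pt ξ C) (f : A ⟶ B) (g : B ⟶ C) :
    φ.comp (f ≫ g) = (φ.comp g).comp f := rfl

theorem comp_id {A : Alg X} (φ : Pt ξ A) : φ.comp (𝟙 A) = φ := rfl

/-- A point as an algebra map. -/
def toAlgHom {A : Alg X} (φ : Pt ξ A) :
    letI : Algebra (X.ring ξ.base) Ω := ξ.toField.toAlgebra
    A.carrier ξ.base →ₐ[X.ring ξ.base] Ω :=
  letI : Algebra (X.ring ξ.base) Ω := ξ.toField.toAlgebra
  { φ.hom with commutes' := φ.comm }

/-- The evaluation `Ω ⊗ A → Ω` at a point. -/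
noncomputable def eval {A : Alg X} (φ : Pt ξ A) :
    letI : Algebra (X.ring ξ.base) Ω := ξ.toField.toAlgebra
    Ω ⊗[X.ring ξ.base] A.carrier ξ.base →ₐ[Ω] Ω :=
  letI : Algebra (X.ring ξ.base) Ω := ξ.toField.toAlgebra
  Algebra.TensorProduct.lift (AlgHom.id Ω Ω) φ.toAlgHom (fun _ _ => Commute.all _ _)

theorem eval_tmul {A : Alg X} (φ : Pt ξ A) (w : Ω) (a : A.carrier ξ.base) :
    letI : Algebra (X.ring ξ.base) Ω := ξ.toField.toAlgebra
    φ.eval (w ⊗ₜ[X.ring ξ.base] a) = w * φ.hom a := rfl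

/-- The prime of the fibre defined by a point. -/
noncomputable def toFib {A : Alg X} (φ : Pt ξ A) : ξ.Fib A :=
  letI : Algebra (X.ring ξ.base) Ω := ξ.toField.toAlgebra
  (⟨RingHom.ker φ.eval.toRingHom, RingHom.ker_isPrime _⟩ :
    PrimeSpectrum (Ω ⊗[X.ring ξ.base] A.carrier ξ.base))

theorem toFib_injective (A : Alg X) :
    Function.Injective (toFib : Pt ξ A → ξ.Fib A) := by
  letI : Algebra (X.ring ξ.base) Ω := ξ.toField.toAlgebra
  intro φ ψ h
  ext a
  let z : Ω ⊗[X.ring ξ.base] A.carrier ξ.base := 1 ⊗ₜ a - φ.hom a ⊗ₜ 1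
  have hz : z ∈ RingHom.ker φ.eval.toRingHom := by
    rw [RingHom.mem_ker]
    change φ.eval z = 0
    rw [map_sub, eval_tmul, eval_tmul, map_one, one_mul, mul_one, sub_self]
  rw [show RingHom.ker φ.eval.toRingHom = RingHom.ker ψ.eval.toRingHom from
    congrArg PrimeSpectrum.asIdeal h, RingHom.mem_ker] at hz
  change ψ.eval z = 0 at hz
  rw [map_sub, eval_tmul, eval_tmul, map_one, one_mul, mul_one, sub_eq_zero] at hz
  exact hz.symm

theorem toFib_surjective (A : Alg X) [Module.Finite (X.ring ξ.base) (A.carrier ξ.base)] :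
    Function.Surjective (toFib : Pt ξ A → ξ.Fib A) := by
  letI : Algebra (X.ring ξ.base) Ω := ξ.toField.toAlgebra
  intro P
  let P' : PrimeSpectrum (Ω ⊗[X.ring ξ.base] A.carrier ξ.base) := P
  let D := Ω ⊗[X.ring ξ.base] A.carrier ξ.base
  haveI : Module.Finite Ω D := inferInstance
  haveI : P'.asIdeal.IsPrime := P'.isPrime
  haveI : IsDomain (D ⧸ P'.asIdeal) := Ideal.Quotient.isDomain _
  haveI : Algebra.IsIntegral Ω (D ⧸ P'.asIdeal) := Algebra.IsIntegral.of_finite Ω _
  let e : Ω ≃ₐ[Ω] (D ⧸ P'.asIdeal) :=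
    AlgEquiv.ofBijective (Algebra.ofId Ω _) IsAlgClosed.algebraMap_bijective_of_isIntegral
  let χ : D →ₐ[Ω] Ω := e.symm.toAlgHom.comp (Ideal.Quotient.mkₐ Ω P'.asIdeal)
  let φ : Pt ξ A :=
    { hom := χ.toRingHom.comp (Algebra.TensorProduct.includeRight (R := X.ring ξ.base) (A := Ω)).toRingHom
      comm := fun r => by
        change χ ((Algebra.TensorProduct.includeRight (R := X.ring ξ.base) (A := Ω)) (algebraMap _ _ r)) = _
        rw [AlgHom.commutes, IsScalarTower.algebraMap_apply (X.ring ξ.base) Ω D, AlgHom.commutes]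
        rfl }
  have hφ : φ.eval = χ := by
    refine Algebra.TensorProduct.ext (AlgHom.ext fun w => ?_) (AlgHom.ext fun a => ?_)
    · change φ.eval (w ⊗ₜ 1) = χ (algebraMap Ω D w)
      rw [eval_tmul, map_one, mul_one, AlgHom.commutes]
      rfl
    · change φ.eval (1 ⊗ₜ a) = χ (1 ⊗ₜ a)
      rw [eval_tmul, one_mul]
      rfl
  refine ⟨φ, ?_⟩
  change (⟨RingHom.ker φ.eval.toRingHom, _⟩ : PrimeSpectrum D) = P'
  apply PrimeSpectrum.ext
  change RingHom.ker φ.eval.toRingHom = P'.asIdeal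
  rw [hφ]
  ext z
  change e.symm (Ideal.Quotient.mk P'.asIdeal z) = 0 ↔ _
  rw [map_eq_zero_iff _ e.symm.injective, Ideal.Quotient.eq_zero_iff_mem]

theorem fibMap_toFib {A B : Alg X} (f : A ⟶ B) (φ : Pt ξ B) :
    ξ.fibMap f φ.toFib = (φ.comp f).toFib := by
  letI : Algebra (X.ring ξ.base) Ω := ξ.toField.toAlgebra
  change PrimeSpectrum.comap
      (Algebra.TensorProduct.map (AlgHom.id Ω Ω) (f.app ξ.base)).toRingHom
      (⟨RingHom.ker φ.eval.toRingHom, _⟩ : PrimeSpectrum _) =
    (⟨RingHom.ker (φ.comp f).eval.toRingHom, _⟩ : PrimeSpectrum _)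
  apply PrimeSpectrum.ext
  change (RingHom.ker φ.eval.toRingHom).comap _ = _
  rw [RingHom.comap_ker]
  congr 1
  exact congrArg AlgHom.toRingHom (show φ.eval.comp
      (Algebra.TensorProduct.map (AlgHom.id Ω Ω) (f.app ξ.base)) = (φ.comp f).eval from
    Algebra.TensorProduct.ext (AlgHom.ext fun w => congrArg (fun x => w * φ.hom x)
      (map_one (f.app ξ.base)) |>.trans (congrArg (fun x => w * φ.hom x) (map_one (f.app ξ.base))).symm)
      (AlgHom.ext fun a => rfl))

end Pt

/-- Points and fibres. -/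
noncomputable def fibEquiv (A : FEt X) : Pt ξ A.obj ≃ ξ.Fib A.obj :=
  haveI := (A.property.2 ξ.base).1
  Equiv.ofBijective Pt.toFib ⟨Pt.toFib_injective A.obj, Pt.toFib_surjective A.obj⟩

theorem fibEquiv_comp {A B : FEt X} (f : A ⟶ B) (φ : Pt ξ B.obj) :
    fibEquiv ξ A (φ.comp f.hom) = ξ.fibMap f.hom (fibEquiv ξ B φ) :=
  (Pt.fibMap_toFib f.hom φ).symm

/-- The prime under the geometric point. -/
def basePrime : PrimeSpectrum (X.ring ξ.base) :=
  ⟨RingHom.ker ξ.toField, RingHom.ker_isPrime _⟩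

theorem card_fib (A : FEt X) :
    Nat.card (ξ.Fib A.obj) = Module.rankAtStalk (A.obj.carrier ξ.base) (basePrime ξ) := by
  letI : Algebra (X.ring ξ.base) Ω := ξ.toField.toAlgebra
  haveI := (A.property.2 ξ.base).1
  haveI := (A.property.2 ξ.base).2
  haveI : Fintype (PrimeSpectrum (Ω ⊗[X.ring ξ.base] A.obj.carrier ξ.base)) :=
    @Fintype.ofFinite _ (inferInstanceAs (Finite (ξ.Fib A.obj)))
  have h1 := (Algebra.FormallyEtale.equivPiOfIsSepClosed Ω
    (Ω ⊗[X.ring ξ.base] A.obj.carrier ξ.base)).toLinearEquiv.finrank_eq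
  rw [Module.finrank_pi] at h1
  change Nat.card (PrimeSpectrum (Ω ⊗[X.ring ξ.base] A.obj.carrier ξ.base)) = _
  rw [Nat.card_eq_fintype_card, ← h1]
  have h2 := Module.rankAtStalk_baseChange (R := X.ring ξ.base) (M := A.obj.carrier ξ.base) (S := Ω)
    (⊥ : PrimeSpectrum Ω)
  rw [Module.rankAtStalk_eq_finrank_of_free] at h2
  refine h2.trans (congrArg (Module.rankAtStalk (A.obj.carrier ξ.base)) (PrimeSpectrum.ext ?_))
  ext r
  change ξ.toField r ∈ (⊥ : Ideal Ω) ↔ ξ.toField r = 0
  exact Ideal.mem_bot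

theorem isIso_of_bijective {A B : FEt X} (f : A ⟶ B) (hb : ∀ p, Function.Bijective (f.hom.app p)) :
    IsIso f :=
  ⟨ObjectProperty.homMk (invOfBijective f.hom hb),
    ObjectProperty.hom_ext _ (comp_invOfBijective f.hom hb),
    ObjectProperty.hom_ext _ (invOfBijective_comp f.hom hb)⟩

theorem isIso_of_bijective_fibMap (hX : X.IsSchematic) (hwc : X.IsWellConnected) {A B : FEt X}
    (f : A ⟶ B) (hb : Function.Bijective (ξ.fibMap f.hom)) : IsIso f := by
  have hrank : ∀ (p : X.pt) (P : PrimeSpectrum (X.ring p)),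
      Module.rankAtStalk (A.obj.carrier p) P = Module.rankAtStalk (B.obj.carrier p) P := by
    intro p P
    rw [rank_const hwc A.property p ξ.base P (basePrime ξ),
      rank_const hwc B.property p ξ.base P (basePrime ξ), ← card_fib, ← card_fib]
    exact (Nat.card_congr (Equiv.ofBijective _ hb)).symm
  obtain ⟨E, hE⟩ := exists_kerIdem f.hom hX A.property B.property
  let K : FEt X := ⟨E.compl.quot, E.compl.isEtCover_quot A.property⟩
  have hK : IsEmpty (Pt ξ K.obj) := by
    constructor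
    intro κ
    obtain ⟨ψ, hψ⟩ := hb.2 (fibEquiv ξ A (κ.comp E.compl.proj))
    obtain ⟨φ, rfl⟩ := (fibEquiv ξ B).surjective ψ
    rw [← fibEquiv_comp] at hψ
    have := congrArg (fun z => z.hom (E.e ξ.base)) ((fibEquiv ξ A).injective hψ)
    simp only [Pt.comp_apply] at this
    rw [show f.hom.app ξ.base (E.e ξ.base) = 0 from
      RingHom.mem_ker.mp ((hE ξ.base).ge (Ideal.mem_span_singleton_self _)), map_zero] at this
    have h1 : E.compl.proj.app ξ.base (E.e ξ.base) = 1 := by
      rw [eq_comm, ← sub_eq_zero, ← map_one (E.compl.proj.app ξ.base), ← map_sub,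
        E.compl.proj_eq_zero_iff]
      exact Ideal.mem_span_singleton_self _
    rw [h1, map_one] at this
    exact zero_ne_one this
  refine isIso_of_bijective f fun p => ?_
  haveI := (A.property.2 p).1
  haveI := (A.property.2 p).2
  haveI := (B.property.2 p).1
  haveI := (B.property.2 p).2
  refine bijective_of_injective_of_rank_eq (f.hom.app p) ?_ (hrank p)
  haveI := (K.property.2 p).1
  haveI := (K.property.2 p).2
  have hsub : Subsingleton (K.obj.carrier p) := by
    rw [← Module.rankAtStalk_eq_zero_iff_subsingleton (R := X.ring p)]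
    funext P
    rw [rank_const hwc K.property p ξ.base P (basePrime ξ), ← card_fib,
      ← Nat.card_congr (fibEquiv ξ K)]
    exact Nat.card_of_isEmpty
  refine (injective_iff_map_eq_zero (f.hom.app p)).mpr fun a ha => ?_
  obtain ⟨x, hx⟩ := Ideal.mem_span_singleton.mp
    ((hE p).le (show a ∈ RingHom.ker (f.hom.app p).toRingHom from ha))
  obtain ⟨y, hy⟩ := Ideal.mem_span_singleton.mp
    ((E.compl.proj_eq_zero_iff p a).mp (hsub.elim _ _))
  calc a = E.e p * a := by rw [hx, ← mul_assoc, (E.idem p).eq]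
    _ = E.e p * ((1 - E.e p) * y) := by rw [hy]; rfl
    _ = 0 := by rw [← mul_assoc, (E.idem p).mul_one_sub_self, zero_mul]

theorem reflectsIsomorphisms (hX : X.IsSchematic) (hwc : X.IsWellConnected) :
    ξ.fibFunctor.ReflectsIsomorphisms := by
  constructor
  intro A B g hg
  haveI : IsIso g.unop := by
    refine isIso_of_bijective_fibMap ξ hX hwc g.unop ?_
    exact (CategoryTheory.isIso_iff_bijective (FintypeCat.incl.map (ξ.fibFunctor.map g))).mp inferInstance
  exact (inferInstance : IsIso g.unop.op)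

end Groth.Agent.SchFinLib
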