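import Groth.Agent.SchFinLib.Geom
import Groth.Agent.SchFinLib.EtRing

set_option backward.isDefEq.respectTransparency false
set_option backward.defeqAttrib.useBackward true

universe u

open TensorProduct CategoryTheory

namespace Groth.Agent.SchFinLib

open SchFin

variable {X : RSpace.{u}} (A : Alg X)

/-- The base change map of an algebra along a restriction, `s ⊗ a ↦ s • res a`. -/
noncomputable def bcA {p q : X.pt} (h : p ≤ q) :
    letI := (X.res h).toAlgebra
    X.ring q ⊗[X.ring p] A.carrier p →+ A.carrier q :=
  bcMap (X.res h) (A.toMod.res h)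

theorem bcA_tmul {p q : X.pt} (h : p ≤ q) (s : X.ring q) (a : A.carrier p) :
    letI := (X.res h).toAlgebra
    bcA A h (s ⊗ₜ[X.ring p] a) = algebraMap (X.ring q) (A.carrier q) s * A.res h a :=
  Algebra.smul_def s (A.res h a)

theorem bijective_bcA {A : Alg X} (hA : A.IsQcoh) {p q : X.pt} (h : p ≤ q) :
    Function.Bijective (bcA A h) :=
  (isBCAlong_iff _ _).mp (hA p q h)

theorem isQcoh_of_bijective (H : ∀ {p q : X.pt} (h : p ≤ q), Function.Bijective (bcA A h)) :
    A.IsQcoh := fun _ _ h => (isBCAlong_iff _ _).mpr (H h)

theorem res_smul {p q : X.pt} (h : p ≤ q) (r : X.ring p) (a : A.carrier p) :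
    A.res h (r • a) = X.res h r • A.res h a := (A.toMod.res h).map_smulₛₗ r a

/-- The base change map as a ring isomorphism. -/
noncomputable def bcEquiv {A : Alg X} (hA : A.IsQcoh) {p q : X.pt} (h : p ≤ q) :
    letI := (X.res h).toAlgebra
    X.ring q ⊗[X.ring p] A.carrier p ≃+* A.carrier q :=
  letI := (X.res h).toAlgebra
  { AddEquiv.ofBijective (bcA A h) (bijective_bcA hA h) with
    map_mul' := fun t t' => by
      change bcA A h (t * t') = bcA A h t * bcA A h t'
      induction t using TensorProduct.induction_on with
      | zero => simp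
      | tmul s a =>
        induction t' using TensorProduct.induction_on with
        | zero => simp
        | tmul s' a' =>
          rw [Algebra.TensorProduct.tmul_mul_tmul, bcA_tmul, bcA_tmul, bcA_tmul, map_mul, map_mul]
          ring
        | add x y hx hy => simp only [mul_add, map_add, hx, hy]
      | add x y hx hy => simp only [add_mul, map_add, hx, hy] }

/-! ### Quotients -/

section Quot

variable (I : ∀ p, Ideal (A.carrier p))
  (hI : ∀ {p q : X.pt} (h : p ≤ q), I p ≤ (I q).comap (A.res h))

/-- The quotient of an algebra by a compatible family of ideals. -/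
def quotAlg : Alg X where
  carrier p := A.carrier p ⧸ I p
  res h := Ideal.quotientMap (I _) (A.res h) (hI h)
  res_algebraMap h a := by
    change Ideal.quotientMap (I _) (A.res h) (hI h) (Ideal.Quotient.mk _ (algebraMap _ _ a)) =
      Ideal.Quotient.mk _ (algebraMap _ _ (X.res h a))
    rw [Ideal.quotientMap_mk, A.res_algebraMap]
  res_self p b := by
    obtain ⟨b, rfl⟩ := Ideal.Quotient.mk_surjective b
    rw [Ideal.quotientMap_mk, A.res_self]
  res_comp h h' b := by
    obtain ⟨b, rfl⟩ := Ideal.Quotient.mk_surjective b
    rw [Ideal.quotientMap_mk, Ideal.quotientMap_mk, Ideal.quotientMap_mk, A.res_comp]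

/-- The projection to the quotient. -/
def quotMk : A ⟶ quotAlg A I hI where
  app p := Ideal.Quotient.mkₐ (X.ring p) (I p)
  compat h b := Ideal.quotientMap_mk (H := hI h)

theorem quotMk_surjective (p : X.pt) : Function.Surjective ((quotMk A I hI).app p) := fun y => by
  obtain ⟨a, rfl⟩ := Ideal.Quotient.mk_surjective (I := I p) y
  exact ⟨a, rfl⟩

/-- A morphism killing the ideals factors through the quotient. -/
def quotLift {B : Alg X} (f : A ⟶ B) (hf : ∀ p, I p ≤ RingHom.ker (f.app p).toRingHom) :
    quotAlg A I hI ⟶ B where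
  app p := Ideal.Quotient.liftₐ (I p) (f.app p) (fun a ha => hf p ha)
  compat h b := by
    obtain ⟨b, rfl⟩ := Ideal.Quotient.mk_surjective b
    exact f.compat h b

theorem quotMk_quotLift {B : Alg X} (f : A ⟶ B)
    (hf : ∀ p, I p ≤ RingHom.ker (f.app p).toRingHom) :
    quotMk A I hI ≫ quotLift A I hI f hf = f := by
  refine Alg.hom_ext _ _ fun p => AlgHom.ext fun b => ?_
  exact Ideal.Quotient.lift_mk (I p) (f.app p).toRingHom (fun a ha => hf p ha)

theorem isQcoh_quotAlg (hA : A.IsQcoh)
    (hgen : ∀ {p q : X.pt} (h : p ≤ q), I q ≤ (I p).map (A.res h)) :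
    (quotAlg A I hI).IsQcoh := by
  refine isQcoh_of_bijective _ fun {p q} h => ?_
  letI := (X.res h).toAlgebra
  let π : X.ring q ⊗[X.ring p] A.carrier p →ₐ[X.ring q] X.ring q ⊗[X.ring p] (A.carrier p ⧸ I p) :=
    Algebra.TensorProduct.map (AlgHom.id (X.ring q) (X.ring q)) (Ideal.Quotient.mkₐ (X.ring p) (I p))
  have hπ : Function.Surjective π :=
    LinearMap.lTensor_surjective (X.ring q)
      (g := (Ideal.Quotient.mkₐ (X.ring p) (I p)).toLinearMap) Ideal.Quotient.mk_surjective
  have hcomm : ∀ t, bcA (quotAlg A I hI) h (π t) = Ideal.Quotient.mk (I q) (bcA A h t) := by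
    intro t
    induction t using TensorProduct.induction_on with
    | zero => simp only [map_zero]
    | tmul s a =>
      rw [bcA_tmul, map_mul]
      refine (bcA_tmul (quotAlg A I hI) h s (Ideal.Quotient.mk (I p) a)).trans ?_
      rfl
    | add x y hx hy => simp only [map_add]; exact congrArg₂ (· + ·) hx hy
  refine ⟨(injective_iff_map_eq_zero _).mpr fun z hz => ?_, fun y => ?_⟩
  · obtain ⟨w, rfl⟩ := hπ z
    rw [hcomm] at hz
    have hle : I q ≤ RingHom.ker (π.toRingHom.comp (bcEquiv hA h).symm.toRingHom) := by
      refine (hgen h).trans (Ideal.map_le_iff_le_comap.mpr fun i hi => ?_)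
      change π ((bcEquiv hA h).symm (A.res h i)) = 0
      have : bcEquiv hA h ((1 : X.ring q) ⊗ₜ[X.ring p] i) = A.res h i :=
        (bcA_tmul A h 1 i).trans (by rw [map_one, one_mul])
      rw [← this, RingEquiv.symm_apply_apply]
      change (1 : X.ring q) ⊗ₜ[X.ring p] (Ideal.Quotient.mk (I p) i) = 0
      rw [Ideal.Quotient.eq_zero_iff_mem.mpr hi, TensorProduct.tmul_zero]
    have hw := hle (Ideal.Quotient.eq_zero_iff_mem.mp hz)
    change π ((bcEquiv hA h).symm (bcEquiv hA h w)) = 0 at hw
    rwa [RingEquiv.symm_apply_apply] at hw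
  · obtain ⟨y, rfl⟩ := Ideal.Quotient.mk_surjective y
    obtain ⟨t, rfl⟩ := (bijective_bcA hA h).2 y
    exact ⟨π t, hcomm t⟩

end Quot

/-! ### Equalizers -/

section Eq

variable {A} {B : Alg X} (f g : A ⟶ B)

/-- The equalizer of two morphisms. -/
def eqAlg : Alg X where
  carrier p := AlgHom.equalizer (f.app p) (g.app p)
  res {p q} h := ((A.res h).domRestrict (AlgHom.equalizer (f.app p) (g.app p))).codRestrict
    (AlgHom.equalizer (f.app q) (g.app q)) (fun b => by
      change f.app q (A.res h b.1) = g.app q (A.res h b.1)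
      rw [← f.compat, ← g.compat, show f.app p b.1 = g.app p b.1 from b.2])
  res_algebraMap h a := Subtype.ext (A.res_algebraMap h a)
  res_self p b := Subtype.ext (A.res_self p b.1)
  res_comp h h' b := Subtype.ext (A.res_comp h h' b.1)

/-- The inclusion of the equalizer. -/
def eqι : eqAlg f g ⟶ A where
  app p := (AlgHom.equalizer (f.app p) (g.app p)).val
  compat _ _ := rfl

theorem eqι_comp : eqι f g ≫ f = eqι f g ≫ g := by
  ext p b
  exact b.2

/-- Factorisation through the equalizer. -/
def eqLift {C : Alg X} (k : C ⟶ A) (hk : k ≫ f = k ≫ g) : C ⟶ eqAlg f g where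
  app p := (k.app p).codRestrict _ (fun c =>
    DFunLike.congr_fun (congrFun (congrArg (fun φ : C ⟶ B => φ.app) hk) p) c)
  compat h c := Subtype.ext (k.compat h c)

theorem isQcoh_eqAlg (hX : X.IsSchematic) (hA : A.IsQcoh) (hB : B.IsQcoh) :
    (eqAlg f g).IsQcoh := by
  refine isQcoh_of_bijective _ fun {p q} h => ?_
  letI := (X.res h).toAlgebra
  haveI : Module.Flat (X.ring p) (X.ring q) := flat_res hX h
  let d : A.carrier p →ₗ[X.ring p] B.carrier p := (f.app p).toLinearMap - (g.app p).toLinearMap
  let K := AlgHom.equalizer (f.app p) (g.app p)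
  let i : K →ₗ[X.ring p] A.carrier p := K.val.toLinearMap
  have hex : Function.Exact i d := by
    intro a
    simp only [d, LinearMap.sub_apply, sub_eq_zero, Set.mem_range]
    exact ⟨fun ha => ⟨⟨a, ha⟩, rfl⟩, fun ⟨⟨b, hb⟩, hba⟩ => hba ▸ hb⟩
  have hd : ∀ t, bcA B h (LinearMap.lTensor (X.ring q) d t) =
      f.app q (bcA A h t) - g.app q (bcA A h t) := by
    intro t
    induction t using TensorProduct.induction_on with
    | zero => simp
    | tmul s a =>
      rw [LinearMap.lTensor_tmul, bcA_tmul, bcA_tmul, map_mul, map_mul, AlgHom.commutes,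
        AlgHom.commutes, ← f.compat, ← g.compat, ← mul_sub, ← map_sub]
      rfl
    | add x y hx hy => simp only [map_add, hx, hy]; abel
  have hi : ∀ t, (bcA (eqAlg f g) h t).1 = bcA A h (LinearMap.lTensor (X.ring q) i t) := by
    intro t
    induction t using TensorProduct.induction_on with
    | zero => simp only [map_zero]; rfl
    | tmul s a =>
      rw [LinearMap.lTensor_tmul, bcA_tmul A]
      exact congrArg Subtype.val (bcA_tmul (eqAlg f g) h s a)
    | add x y hx hy => simp only [map_add]; exact congrArg₂ (· + ·) hx hy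
  refine ⟨fun a b hab => ?_, fun y => ?_⟩
  · apply Module.Flat.lTensor_preserves_injective_linearMap (M := X.ring q) i Subtype.val_injective
    apply (bijective_bcA hA h).1
    rw [← hi, ← hi, hab]
  · obtain ⟨t, ht⟩ := (bijective_bcA hA h).2 y.1
    have h0 : LinearMap.lTensor (X.ring q) d t = 0 := by
      apply (bijective_bcA hB h).1
      rw [hd, map_zero, ht, sub_eq_zero]
      exact y.2
    obtain ⟨s, rfl⟩ := ((Module.Flat.lTensor_exact (X.ring q) hex) t).mp h0
    exact ⟨s, Subtype.ext ((hi s).trans ht)⟩

end Eq

/-! ### Products -/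

section Prod

variable (B : Alg X)

/-- The product of two algebras. -/
def prodAlg : Alg X where
  carrier p := A.carrier p × B.carrier p
  res h := RingHom.prodMap (A.res h) (B.res h)
  res_algebraMap h a := Prod.ext (A.res_algebraMap h a) (B.res_algebraMap h a)
  res_self p b := Prod.ext (A.res_self p b.1) (B.res_self p b.2)
  res_comp h h' b := Prod.ext (A.res_comp h h' b.1) (B.res_comp h h' b.2)

/-- first projection -/
def prodFst : prodAlg A B ⟶ A where
  app p := AlgHom.fst (X.ring p) (A.carrier p) (B.carrier p)
  compat _ _ := rfl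

/-- second projection -/
def prodSnd : prodAlg A B ⟶ B where
  app p := AlgHom.snd (X.ring p) (A.carrier p) (B.carrier p)
  compat _ _ := rfl

/-- pairing -/
def prodLift {C : Alg X} (f : C ⟶ A) (g : C ⟶ B) : C ⟶ prodAlg A B where
  app p := AlgHom.prod (f.app p) (g.app p)
  compat h c := Prod.ext (f.compat h c) (g.compat h c)

theorem isQcoh_prodAlg (hA : A.IsQcoh) (hB : B.IsQcoh) : (prodAlg A B).IsQcoh := by
  refine isQcoh_of_bijective _ fun {p q} h => ?_
  letI := (X.res h).toAlgebra
  let e := TensorProduct.prodRight (X.ring p) (X.ring p) (X.ring q) (A.carrier p) (B.carrier p)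
  have key : ∀ t, bcA (prodAlg A B) h t = (bcA A h (e t).1, bcA B h (e t).2) := by
    intro t
    induction t using TensorProduct.induction_on with
    | zero => simp only [map_zero, Prod.fst_zero, Prod.snd_zero]; rfl
    | tmul s a => rfl
    | add x y hx hy =>
      simp only [map_add, Prod.fst_add, Prod.snd_add]
      exact congrArg₂ (· + ·) hx hy
  rw [show ⇑(bcA (prodAlg A B) h) = Prod.map (bcA A h) (bcA B h) ∘ e from funext key]
  exact ((bijective_bcA hA h).prodMap (bijective_bcA hB h)).comp e.bijective

end Prod

/-! ### Tensor products -/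

section Tensor

variable (B : Alg X)

/-- Restriction on tensor products. -/
noncomputable def tensorRes {p q : X.pt} (h : p ≤ q) :
    A.carrier p ⊗[X.ring p] B.carrier p →+* A.carrier q ⊗[X.ring q] B.carrier q :=
  letI : Algebra (X.ring p) (A.carrier q ⊗[X.ring q] B.carrier q) :=
    ((algebraMap (X.ring q) _).comp (X.res h)).toAlgebra
  (Algebra.TensorProduct.lift
    (⟨Algebra.TensorProduct.includeLeftRingHom.comp (A.res h), fun r => by
      change (A.res h (algebraMap _ _ r)) ⊗ₜ[X.ring q] (1 : B.carrier q) = _
      rw [A.res_algebraMap]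
      rfl⟩ : A.carrier p →ₐ[X.ring p] A.carrier q ⊗[X.ring q] B.carrier q)
    (⟨(Algebra.TensorProduct.includeRight (R := X.ring q)).toRingHom.comp (B.res h), fun r => by
      change (1 : A.carrier q) ⊗ₜ[X.ring q] (B.res h (algebraMap _ _ r)) = _
      rw [B.res_algebraMap]
      exact (Algebra.TensorProduct.includeRight (R := X.ring q)).commutes _⟩ :
        B.carrier p →ₐ[X.ring p] A.carrier q ⊗[X.ring q] B.carrier q)
    (fun _ _ => Commute.all _ _)).toRingHom

theorem tensorRes_tmul {p q : X.pt} (h : p ≤ q) (a : A.carrier p) (b : B.carrier p) :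
    tensorRes A B h (a ⊗ₜ b) = A.res h a ⊗ₜ B.res h b := by
  change (A.res h a ⊗ₜ[X.ring q] (1 : B.carrier q)) * ((1 : A.carrier q) ⊗ₜ B.res h b) = _
  rw [Algebra.TensorProduct.tmul_mul_tmul, mul_one, one_mul]

/-- The tensor product of two algebras. -/
noncomputable def tensorAlg : Alg X where
  carrier p := A.carrier p ⊗[X.ring p] B.carrier p
  res h := tensorRes A B h
  res_algebraMap h a := by
    rw [Algebra.TensorProduct.algebraMap_apply, Algebra.TensorProduct.algebraMap_apply,
      tensorRes_tmul, A.res_algebraMap, map_one]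
  res_self p b := by
    induction b using TensorProduct.induction_on with
    | zero => simp
    | tmul a b => rw [tensorRes_tmul, A.res_self, B.res_self]
    | add x y hx hy => rw [map_add, hx, hy]
  res_comp h h' b := by
    induction b using TensorProduct.induction_on with
    | zero => simp
    | tmul a b => rw [tensorRes_tmul, tensorRes_tmul, tensorRes_tmul, A.res_comp, B.res_comp]
    | add x y hx hy => simp only [map_add, hx, hy]

/-- left inclusion -/
noncomputable def tensorInl : A ⟶ tensorAlg A B where
  app p := Algebra.TensorProduct.includeLeft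
  compat h a := (tensorRes_tmul A B h a 1).trans (by rw [map_one]; rfl)

/-- right inclusion -/
noncomputable def tensorInr : B ⟶ tensorAlg A B where
  app p := Algebra.TensorProduct.includeRight
  compat h b := (tensorRes_tmul A B h 1 b).trans (by rw [map_one]; rfl)

/-- universal map out of a tensor product -/
noncomputable def tensorDesc {C : Alg X} (f : A ⟶ C) (g : B ⟶ C) : tensorAlg A B ⟶ C where
  app p := Algebra.TensorProduct.lift (f.app p) (g.app p) (fun _ _ => Commute.all _ _)
  compat {p q} h t := by
    induction t using TensorProduct.induction_on with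
    | zero => simp
    | tmul a b =>
      refine Eq.trans ?_ (congrArg _ (tensorRes_tmul A B h a b)).symm
      change C.res h (f.app p a * g.app p b) = f.app q (A.res h a) * g.app q (B.res h b)
      rw [map_mul, f.compat, g.compat]
    | add x y hx hy =>
      rw [map_add, map_add, hx, hy]
      exact ((congrArg _ (map_add _ x y)).trans (map_add _ _ _)).symm

theorem isQcoh_tensorAlg (hA : A.IsQcoh) (hB : B.IsQcoh) : (tensorAlg A B).IsQcoh := by
  refine isQcoh_of_bijective _ fun {p q} h => ?_
  letI := (X.res h).toAlgebra
  let toLin : ∀ (D : Alg X) (hD : D.IsQcoh),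
      (X.ring q ⊗[X.ring p] D.carrier p) ≃ₗ[X.ring q] D.carrier q := fun D hD =>
    { AddEquiv.ofBijective (bcA D h) (bijective_bcA hD h) with
      map_smul' := fun r t => by
        change bcA D h (r • t) = r • bcA D h t
        induction t using TensorProduct.induction_on with
        | zero => simp
        | tmul s a =>
          rw [TensorProduct.smul_tmul', bcA_tmul, bcA_tmul, smul_eq_mul, map_mul, Algebra.smul_def,
            mul_assoc]
        | add x y hx hy => simp only [smul_add, map_add, hx, hy] }
  let e := (TensorProduct.AlgebraTensorModule.distribBaseChange (X.ring p) (X.ring q)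
    (A.carrier p) (B.carrier p)).trans (TensorProduct.congr (toLin A hA) (toLin B hB))
  have key : ∀ t, bcA (tensorAlg A B) h t = e t := by
    intro t
    induction t using TensorProduct.induction_on with
    | zero => exact (map_zero _).trans (map_zero e).symm
    | tmul s x =>
      induction x using TensorProduct.induction_on with
      | zero => rw [TensorProduct.tmul_zero]; exact (map_zero _).trans (map_zero e).symm
      | tmul a b =>
        refine (bcA_tmul (tensorAlg A B) h s (a ⊗ₜ b)).trans ?_
        change algebraMap (X.ring q) (A.carrier q ⊗[X.ring q] B.carrier q) s * tensorRes A B h (a ⊗ₜ b) =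
          bcA A h (s ⊗ₜ a) ⊗ₜ[X.ring q] bcA B h ((1 : X.ring q) ⊗ₜ b)
        rw [tensorRes_tmul, bcA_tmul, bcA_tmul, map_one, one_mul,
          Algebra.TensorProduct.algebraMap_apply, Algebra.TensorProduct.tmul_mul_tmul, one_mul]
      | add x y hx hy =>
        rw [TensorProduct.tmul_add]
        exact (map_add _ _ _).trans ((congrArg₂ (· + ·) hx hy).trans (map_add e _ _).symm)
    | add x y hx hy => exact (map_add _ _ _).trans ((congrArg₂ (· + ·) hx hy).trans (map_add e _ _).symm)
  rw [show ⇑(bcA (tensorAlg A B) h) = e from funext key]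
  exact e.bijective

end Tensor

theorem isQcoh_str (hX : X.IsSchematic) : (Alg.str X).IsQcoh := by
  refine isQcoh_of_bijective _ fun {p q} h => ?_
  letI := (X.res h).toAlgebra
  have key : ∀ t, bcA (Alg.str X) h t = TensorProduct.rid (X.ring p) (X.ring q) t := by
    intro t
    induction t using TensorProduct.induction_on with
    | zero => exact (map_zero _).trans (map_zero _).symm
    | tmul s a =>
      refine (bcA_tmul (Alg.str X) h s a).trans ?_
      rw [TensorProduct.rid_tmul, Algebra.smul_def, mul_comm]
      rfl
    | add x y hx hy => exact (map_add _ _ _).trans ((congrArg₂ (· + ·) hx hy).trans (map_add _ _ _).symm)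
  rw [show ⇑(bcA (Alg.str X) h) = TensorProduct.rid (X.ring p) (X.ring q) from funext key]
  exact LinearEquiv.bijective _

end Groth.Agent.SchFinLib
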