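import Mathlib
import Groth.Prelude.Def_SchFin
import Groth.Prelude.Def_SchFin2

set_option backward.isDefEq.respectTransparency false
set_option backward.defeqAttrib.useBackward true

universe u

open TensorProduct

namespace Groth.Agent.SchFinLib

open SchFin

section BC

variable {R S M N : Type u} [CommRing R] [CommRing S] (g : R →+* S)
  [AddCommGroup M] [AddCommGroup N] [Module R M] [Module S N]

/-- `s ⊗ m ↦ s • f m`. -/
noncomputable def bcMap (f : M →ₛₗ[g] N) :
    letI := g.toAlgebra
    S ⊗[R] M →+ N :=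
  letI := g.toAlgebra
  TensorProduct.liftAddHom
    { toFun := fun s =>
        { toFun := fun m => s • f m
          map_zero' := by simp
          map_add' := fun a b => by simp [smul_add] }
      map_zero' := by ext; simp
      map_add' := fun a b => by ext; simp [add_smul] }
    (fun r s m => by
      change (r • s) • f m = s • f (r • m)
      rw [LinearMap.map_smulₛₗ, smul_smul, Algebra.smul_def, RingHom.algebraMap_toAlgebra, mul_comm])

theorem bcMap_tmul (f : M →ₛₗ[g] N) (s : S) (m : M) :
    letI := g.toAlgebra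
    bcMap g f (s ⊗ₜ[R] m) = s • f m := rfl

theorem isBCAlong_iff (f : M →ₛₗ[g] N) :
    IsBCAlong g f ↔ Function.Bijective (bcMap g f) := by
  letI := g.toAlgebra
  letI : Module R N := Module.compHom N g
  haveI : IsScalarTower R S N := IsScalarTower.of_algebraMap_smul fun _ _ => rfl
  unfold IsBCAlong
  refine iff_of_eq (congrArg Function.Bijective ?_)
  funext t
  induction t using TensorProduct.induction_on with
  | zero => exact (map_zero _).trans (map_zero _).symm
  | tmul s m => rfl
  | add x y hx hy => exact (map_add _ _ _).trans ((congrArg₂ (· + ·) hx hy).trans (map_add _ _ _).symm)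

/-- Transport along semilinear bijections. -/
theorem isBCAlong_congr {M' N' : Type u} [AddCommGroup M'] [AddCommGroup N'] [Module R M']
    [Module S N'] {f : M →ₛₗ[g] N} {f' : M' →ₛₗ[g] N'} (a : M ≃ₗ[R] M') (b : N ≃ₗ[S] N')
    (hc : ∀ m, b (f m) = f' (a m)) (h : IsBCAlong g f) : IsBCAlong g f' := by
  rw [isBCAlong_iff] at h ⊢
  letI := g.toAlgebra
  have : ∀ t, bcMap g f' (LinearMap.lTensor S (a : M →ₗ[R] M') t) = b (bcMap g f t) := by
    intro t
    induction t using TensorProduct.induction_on with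
    | zero => simp
    | tmul s m =>
      rw [LinearMap.lTensor_tmul, bcMap_tmul, bcMap_tmul, map_smul, hc]
      rfl
    | add x y hx hy => simp only [map_add, hx, hy]
  have hb : Function.Bijective (fun t => bcMap g f' (LinearMap.lTensor S (a : M →ₗ[R] M') t)) := by
    simp_rw [this]
    exact b.bijective.comp h
  exact (Function.Bijective.of_comp_iff _ (LinearEquiv.lTensor S a).bijective).mp hb

theorem isBCAlong_iff_congr {M' N' : Type u} [AddCommGroup M'] [AddCommGroup N'] [Module R M']
    [Module S N'] {f : M →ₛₗ[g] N} {f' : M' →ₛₗ[g] N'} (a : M ≃ₗ[R] M') (b : N ≃ₗ[S] N')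
    (hc : ∀ m, b (f m) = f' (a m)) : IsBCAlong g f ↔ IsBCAlong g f' :=
  ⟨isBCAlong_congr g a b hc, isBCAlong_congr g a.symm b.symm fun m => by
    rw [LinearEquiv.symm_apply_eq, hc, LinearEquiv.apply_symm_apply]⟩

end BC

section H0

variable {X : RSpace.{u}} {U : Set X.pt} {R : Type u} [CommRing R] (φ : Coef X U R) (M : OMod X)

theorem fin1 (i j : Fin (0 + 1)) : i = j := Fin.ext (by omega)

/-- The chain with a single point. -/
def single (q : U) : Chain U 0 :=
  ⟨⟨fun _ => q, fun a b _ => fin1 a b⟩,
    fun {a b} => ⟨fun _ => (fin1 a b).le, fun _ => le_rfl⟩⟩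

theorem chain_eq_single (σ : Chain U 0) : σ = single (σ (Fin.last 0)) := by
  ext i
  rw [fin1 i (Fin.last 0)]
  rfl

/-- The value of a `0`-cochain at a point. -/
def val (c : Cochain φ M 0) (q : U) : M.carrier q.1 := c (single q)

theorem val_smul (a : R) (c : Cochain φ M 0) (q : U) :
    val φ M (a • c) q = φ.map q a • val φ M c q := rfl

theorem cochain_ext {c c' : Cochain φ M 0} (h : ∀ q, val φ M c q = val φ M c' q) : c = c' := by
  funext σ
  obtain ⟨r, rfl⟩ : ∃ r, σ = single r := ⟨_, chain_eq_single σ⟩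
  exact h r

theorem faceVal_eq (c : Cochain φ M 0) (τ : Chain U 1) (j : Fin 2) (r : U) (hr : τ.face j = single r)
    (hle : r.1 ≤ (τ (Fin.last 1)).1) :
    c.faceVal τ j = M.res hle (val φ M c r) := by
  have key : ∀ (σ : Chain U 0) (hσ : σ = single r) (hle' : (σ (Fin.last 0)).1 ≤ (τ (Fin.last 1)).1),
      M.res hle' (c σ) = M.res hle (c (single r)) := by
    intro σ hσ hle'
    subst hσ
    rfl
  exact key _ hr _

theorem diff_zero_apply (c : Cochain φ M 0) (τ : Chain U 1) :
    diff φ M 0 c τ = val φ M c (τ (Fin.last 1)) -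
      M.res (τ.monotone (Fin.le_last 0)) (val φ M c (τ 0)) := by
  change ∑ j : Fin 2, ((-1 : ℤ) ^ (j : ℕ)) • c.faceVal τ j = _
  rw [Fin.sum_univ_two,
    faceVal_eq φ M c τ 0 (τ (Fin.last 1)) ((chain_eq_single _).trans rfl) le_rfl,
    faceVal_eq φ M c τ 1 (τ 0) ((chain_eq_single _).trans rfl) (τ.monotone (Fin.le_last 0)),
    M.res_self]
  simp [sub_eq_add_neg]

theorem mem_cocycles_zero_iff (c : Cochain φ M 0) :
    c ∈ cocycles φ M 0 ↔
      ∀ (q q' : U) (h : q.1 ≤ q'.1), M.res h (val φ M c q) = val φ M c q' := by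
  constructor
  · intro hc q q' h
    rcases eq_or_lt_of_le (show q ≤ q' from h) with rfl | hlt
    · exact M.res_self _ _
    · have hzero : diff φ M 0 c = 0 := hc
      have hmono : StrictMono ![q, q'] :=
        Fin.strictMono_iff_lt_succ.mpr fun i => by fin_cases i; exact hlt
      have := diff_zero_apply φ M c (OrderEmbedding.ofStrictMono ![q, q'] hmono)
      rw [hzero] at this
      exact (sub_eq_zero.mp this.symm).symm
  · intro hc
    change diff φ M 0 c = 0
    funext τ
    rw [diff_zero_apply, hc (τ 0) (τ (Fin.last 1)) (τ.monotone (Fin.le_last 0)), sub_self]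
    rfl

/-- In degree zero cohomology is the module of cocycles. -/
def h0Equiv : H φ M 0 ≃ₗ[R] cocycles φ M 0 :=
  Submodule.quotEquivOfEqBot _ (by
    rw [show cobdry φ M 0 = ⊥ from rfl, Submodule.comap_bot, Submodule.ker_subtype])

/-- restriction of cocycles of degree zero -/
def resZ {U' : Set X.pt} {R' : Type u} [CommRing R'] {φ' : Coef X U' R'} (s : Coef.Sub φ φ') :
    cocycles φ M 0 →ₛₗ[s.hom] cocycles φ' M 0 :=
  ((resCochain M s 0).domRestrict (cocycles φ M 0)).codRestrict (cocycles φ' M 0) (fun c => by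
    change diff φ' M 0 (resCochain M s 0 c.1) = 0
    rw [diff_resCochain, show diff φ M 0 c.1 = 0 from c.2, map_zero])

theorem isBCAlong_resH_zero_iff {U' : Set X.pt} {R' : Type u} [CommRing R'] {φ' : Coef X U' R'}
    (s : Coef.Sub φ φ') : IsBCAlong s.hom (resH M s 0) ↔ IsBCAlong s.hom (resZ φ M s) :=
  isBCAlong_iff_congr s.hom (h0Equiv φ M) (h0Equiv φ' M) fun m => by
    obtain ⟨c, rfl⟩ := Submodule.Quotient.mk_surjective _ m
    rfl

/-- Degree-zero cocycles of the rings are the sections. -/
def cocyclesEquiv : cocycles φ X.str 0 ≃+ X.sectRing U where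
  toFun c := ⟨fun q => val φ X.str c.1 q, (mem_cocycles_zero_iff φ X.str c.1).mp c.2⟩
  invFun s := ⟨fun σ => s.1 (σ (Fin.last 0)), (mem_cocycles_zero_iff φ X.str _).mpr
    fun q q' h => s.2 q q' h⟩
  left_inv c := Subtype.ext (cochain_ext φ X.str fun _ => rfl)
  right_inv s := rfl
  map_add' _ _ := rfl

theorem cocyclesEquiv_smul (a : R) (c : cocycles φ X.str 0) (q : U) :
    (cocyclesEquiv φ (a • c)).1 q = φ.map q a * (cocyclesEquiv φ c).1 q := rfl

end H0

end Groth.Agent.SchFinLib
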